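import Cfsg.Agent.H665.NoPQ
import Cfsg.Agent.S0145
import Cfsg.Agent.Characters.Linear
import Cfsg.Agent.H419.Count_m3
import Cfsg.Agent.S0165
import Cfsg.Agent.H665.OddCent
import Cfsg.Agent.Characters.ClassMul
import Cfsg.Agent.FastGrp
import Cfsg.Agent.Prune
set_option linter.all false

section
prune_inst 0x7f00000000000000000000000000000000000000000000000000000000000000000000000000000000000000000000000000000000000000000000000000000000000000000000000000000000000000003fdff7ffffffffffffffffffffffbeffbdefffffff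

-- part: H713/Engine
section
prune_inst 0x8000000000000000000000000000010000000
set_option linter.all false
open scoped Cfsg.Agent.FastGrp

-- part: H713/Count
section
/-!
# Counting characters that are not of defect zero, Sylow subgroup of prime order (helper713)

Let `x` have prime order `p`, `#C_G(x) = p * c`, `e` the number of powers of `x` conjugate to `x`,
`e * t = p - 1`.  Then at most `c * (e + t)` irreducible characters `χ` of `G` are nonzero at `x`.
-/

set_option autoImplicit false

namespace Cfsg.Agent.H713.Count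

open Cfsg Cfsg.Agent.Characters.Core Cfsg.Agent.Characters.Linear Cfsg.Agent.Blocks.Basic
open Cfsg.Agent.H665.NoPQ
open scoped ComplexConjugate

variable {G : Type*} [Group G] {p : ℕ} [hp : Fact p.Prime]

theorem pow_val_mul {x : G} (hx : x ^ p = 1) (i j : ZMod p) :
    (x ^ i.val) ^ j.val = x ^ (i * j).val := by
  rw [← pow_mul, ZMod.val_mul]
  conv_lhs => rw [← Nat.mod_add_div (i.val * j.val) p, pow_add, pow_mul, hx, one_pow, mul_one]

theorem pow_val_add {x : G} (hx : x ^ p = 1) (i j : ZMod p) :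
    x ^ i.val * x ^ j.val = x ^ (i + j).val := by
  rw [← pow_add, ZMod.val_add]
  conv_lhs => rw [← Nat.mod_add_div (i.val + j.val) p, pow_add, pow_mul, hx, one_pow, mul_one]

/-- The homomorphism from the cyclic group of order `p` given by `x`. -/
noncomputable def hom (x : G) (hx : x ^ p = 1) : Multiplicative (ZMod p) →* G where
  toFun i := x ^ (Multiplicative.toAdd i).val
  map_one' := by simp
  map_mul' a b := by rw [toAdd_mul, pow_val_add hx]

/-- The linear character `i ↦ ζ ^ (k * i)` of the cyclic group of order `p`. -/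
noncomputable def lam (k : ZMod p) : Multiplicative (ZMod p) →* ℂˣ :=
  ((AddChar.mulShift (ZMod.stdAddChar (N := p)) k).toMonoidHom).toHomUnits

theorem lam_apply (k i : ZMod p) : ((lam k (Multiplicative.ofAdd i) : ℂˣ) : ℂ) =
    ZMod.stdAddChar (k * i) := rfl

/-- The multiplicity of `lam k` in the restriction of `χ` to the subgroup generated by `x`. -/
noncomputable def mlt (x : G) (χ : G → ℂ) (k : ZMod p) : ℂ :=
  (p : ℂ)⁻¹ * ∑ i : ZMod p, χ (x ^ i.val) * conj (ZMod.stdAddChar (k * i))

theorem mlt_isNat [Finite G] {x : G} (hx : x ^ p = 1) {χ : G → ℂ} (hχ : IsCharacter G χ) (k : ZMod p) :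
    ∃ n : ℕ, mlt x χ k = n := by
  have h1 := isCharacter_comp (hom x hx) hχ
  obtain ⟨n, hn⟩ := classInner_isNat h1 (isCharacter_hom (lam k))
  refine ⟨n, ?_⟩
  rw [← hn, Cfsg.Agent.Characters.Core.classInner_def, mlt, Nat.card_eq_fintype_card]
  congr 1
  · simp [ZMod.card]
  · exact Fintype.sum_equiv Multiplicative.ofAdd _ _ fun i => rfl

theorem sum_stdAddChar (k : ZMod p) :
    ∑ i : ZMod p, ZMod.stdAddChar (k * i) = if k = 0 then (p : ℂ) else 0 := by
  have h := AddChar.sum_mulShift k (ZMod.isPrimitive_stdAddChar p)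
  simp only [mul_comm _ k] at h
  rw [h]
  split_ifs
  · simp [ZMod.card]
  · simp

theorem conj_stdAddChar (i : ZMod p) :
    conj (ZMod.stdAddChar i : ℂ) = ZMod.stdAddChar (-i) := by
  rw [ZMod.stdAddChar_apply, ZMod.stdAddChar_apply, AddChar.map_neg_eq_inv, ← Circle.coe_inv_eq_conj]

theorem sum_stdAddChar' (i : ZMod p) :
    ∑ k : ZMod p, ZMod.stdAddChar (k * i) = if i = 0 then (p : ℂ) else 0 := by
  rw [← sum_stdAddChar i]
  exact Finset.sum_congr rfl fun k _ => by rw [mul_comm]

theorem sum_mlt (x : G) (χ : G → ℂ) : ∑ k : ZMod p, mlt x χ k = χ 1 := by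
  unfold mlt
  rw [← Finset.mul_sum, Finset.sum_comm]
  have h1 : ∀ i : ZMod p, ∑ k : ZMod p, χ (x ^ i.val) * conj (ZMod.stdAddChar (k * i) : ℂ) =
      if i = 0 then χ 1 * (p : ℂ) else 0 := by
    intro i
    rw [← Finset.mul_sum, ← map_sum, sum_stdAddChar']
    split_ifs with h
    · subst h
      simp
    · simp
  rw [Finset.sum_congr rfl fun i _ => h1 i, Finset.sum_ite_eq' Finset.univ (0 : ZMod p)]
  have : (p : ℂ) ≠ 0 := by exact_mod_cast hp.out.ne_zero
  simp only [Finset.mem_univ, if_true]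
  field_simp

/-- Multiplicities of characters conjugate under the normalizer agree. -/
theorem mlt_mul {x : G} (hx : x ^ p = 1) {χ : G → ℂ} (hχ : IsClassFunction G χ) {m : ZMod p}
    (hm0 : m ≠ 0) (hm : IsConj x (x ^ m.val)) (k : ZMod p) : mlt x χ (k * m) = mlt x χ k := by
  unfold mlt
  congr 1
  refine Fintype.sum_equiv (Equiv.mulRight₀ m hm0) _ _ fun i => ?_
  have h1 : χ (x ^ (i * m).val) = χ (x ^ i.val) := by
    rw [mul_comm, ← pow_val_mul hx]
    obtain ⟨c, hc⟩ := isConj_iff.1 hm
    rw [← hc, conj_pow]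
    exact hχ _ _
  show _ = χ (x ^ (i * m).val) * conj (ZMod.stdAddChar (k * (i * m)) : ℂ)
  rw [h1, mul_assoc k m i, mul_comm m i]

/-- The powers of `x` conjugate to `x`. -/
noncomputable def fus (x : G) : Finset (ZMod p) := by
  classical
  exact Finset.univ.filter fun m => m ≠ 0 ∧ IsConj x (x ^ m.val)

theorem mem_fus {x : G} {m : ZMod p} : m ∈ fus x ↔ m ≠ 0 ∧ IsConj x (x ^ m.val) := by
  classical
  simp only [fus, _root_.ne_eq, _root_.isConj_iff, _root_.Finset.mem_filter, _root_.Finset.mem_univ, _root_.true_and]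

theorem one_mem_fus {x : G} : (1 : ZMod p) ∈ fus x := by
  rw [mem_fus]
  exact ⟨one_ne_zero, by rw [ZMod.val_one, pow_one]⟩

theorem isConj_pow_iff {x : G} (hx : x ^ p = 1) {i j : ZMod p} (hi : i ≠ 0) (hj : j ≠ 0) :
    IsConj (x ^ i.val) (x ^ j.val) ↔ j * i⁻¹ ∈ fus x := by
  rw [mem_fus]
  constructor
  · intro h
    refine ⟨mul_ne_zero hj (inv_ne_zero hi), ?_⟩
    have h1 := h.pow (i⁻¹ : ZMod p).val
    rwa [pow_val_mul hx, pow_val_mul hx, mul_inv_cancel₀ hi, ZMod.val_one, pow_one] at h1
  · rintro ⟨-, h⟩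
    have h1 := h.pow i.val
    rwa [pow_val_mul hx, mul_assoc, inv_mul_cancel₀ hi, mul_one] at h1


theorem card_centralizer_pow [Finite G] {x : G} (hx : x ^ p = 1) {j : ZMod p} (hj : j ≠ 0) :
    Nat.card (Subgroup.centralizer ({x ^ j.val} : Set G)) =
      Nat.card (Subgroup.centralizer ({x} : Set G)) := by
  congr 2
  ext g
  rw [Subgroup.mem_centralizer_singleton_iff, Subgroup.mem_centralizer_singleton_iff]
  constructor
  · intro h
    have h1 : Commute g (x ^ j.val) := h
    have h2 := h1.pow_right (j⁻¹ : ZMod p).val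
    rw [pow_val_mul hx, mul_inv_cancel₀ hj, ZMod.val_one, pow_one] at h2
    exact h2
  · intro h
    have h1 : Commute g x := h
    exact h1.pow_right _

theorem sum_col [Finite G] [Fintype (IrrCharacter G)] {x : G} (hx : x ^ p = 1) {i m : ZMod p} (hi : i ≠ 0)
    (hm : m ≠ 0) : ∑ χ : IrrCharacter G, (χ : G → ℂ) (x ^ i.val) * conj ((χ : G → ℂ) (x ^ (m * i).val)) =
      if m ∈ fus x then (Nat.card (Subgroup.centralizer ({x} : Set G)) : ℂ) else 0 := by
  classical
  have := Fintype.ofFinite G
  rw [Cfsg.Agent.S0145.sum_irr_mul_conj, card_centralizer_pow hx (mul_ne_zero hm hi)]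
  have h1 : IsConj (x ^ i.val) (x ^ (m * i).val) ↔ m ∈ fus x := by
    rw [isConj_pow_iff hx hi (mul_ne_zero hm hi), mul_assoc, mul_inv_cancel₀ hi, mul_one]
  simp only [h1]

theorem sum_sq [Finite G] [Fintype (IrrCharacter G)] {x : G} (hx : x ^ p = 1) {c : ℕ}
    (hc : Nat.card (Subgroup.centralizer ({x} : Set G)) = p * c) (k l : ZMod p) :
    ∑ χ : IrrCharacter G, (mlt x χ k - mlt x χ l) * conj (mlt x χ k - mlt x χ l) =
      (c : ℂ) * ∑ m ∈ fus x, ((if k * m = k then (1 : ℂ) else 0) - (if l * m = k then (1 : ℂ) else 0)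
        - (if k * m = l then (1 : ℂ) else 0) + (if l * m = l then (1 : ℂ) else 0)) := by
  classical
  have hp0 : (p : ℂ) ≠ 0 := by exact_mod_cast hp.out.ne_zero
  set w : ZMod p → ℂ := fun i => conj (ZMod.stdAddChar (k * i)) - conj (ZMod.stdAddChar (l * i)) with hw
  have hw0 : w 0 = 0 := by simp only [hw, _root_.MulZeroClass.mul_zero, _root_.AddChar.map_zero_eq_one, _root_.map_one, _root_.sub_self]
  have h1 : ∀ χ : IrrCharacter G, mlt x χ k - mlt x χ l =
      (p : ℂ)⁻¹ * ∑ i : ZMod p, (χ : G → ℂ) (x ^ i.val) * w i := by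
    intro χ
    unfold mlt
    rw [← mul_sub, ← Finset.sum_sub_distrib]
    congr 1
    refine Finset.sum_congr rfl fun i _ => ?_
    rw [hw]
    ring
  have h2 : ∀ χ : IrrCharacter G, (mlt x χ k - mlt x χ l) * conj (mlt x χ k - mlt x χ l) =
      (p : ℂ)⁻¹ * (p : ℂ)⁻¹ * ∑ i : ZMod p, ∑ j : ZMod p,
        w i * conj (w j) * ((χ : G → ℂ) (x ^ i.val) * conj ((χ : G → ℂ) (x ^ j.val))) := by
    intro χ
    rw [h1 χ, map_mul, map_sum, map_inv₀, Complex.conj_natCast]
    rw [show ∀ a b : ℂ, (p : ℂ)⁻¹ * a * ((p : ℂ)⁻¹ * b) = (p : ℂ)⁻¹ * (p : ℂ)⁻¹ * (a * b) from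
      fun a b => by ring, Finset.sum_mul_sum]
    congr 1
    refine Finset.sum_congr rfl fun i _ => Finset.sum_congr rfl fun j _ => ?_
    rw [map_mul]
    ring
  rw [Finset.sum_congr rfl fun χ _ => h2 χ, ← Finset.mul_sum, Finset.sum_comm]
  have h3 : ∀ i : ZMod p, ∑ χ : IrrCharacter G, ∑ j : ZMod p,
      w i * conj (w j) * ((χ : G → ℂ) (x ^ i.val) * conj ((χ : G → ℂ) (x ^ j.val))) =
      ((p * c : ℕ) : ℂ) * ∑ m ∈ fus x, w i * conj (w (m * i)) := by
    intro i
    by_cases hi : i = 0
    · subst hi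
      simp only [hw0, _root_.MulZeroClass.zero_mul, _root_.ZMod.val_zero, _root_.pow_zero, _root_.Finset.sum_const_zero, _root_.Nat.cast_mul, _root_.MulZeroClass.mul_zero, _root_.map_zero]
    rw [Finset.sum_comm]
    have h4 : ∑ j : ZMod p, ∑ χ : IrrCharacter G,
        w i * conj (w j) * ((χ : G → ℂ) (x ^ i.val) * conj ((χ : G → ℂ) (x ^ j.val))) =
        ∑ m : ZMod p, ∑ χ : IrrCharacter G,
        w i * conj (w (m * i)) * ((χ : G → ℂ) (x ^ i.val) * conj ((χ : G → ℂ) (x ^ (m * i).val))) :=
      (Fintype.sum_equiv (Equiv.mulRight₀ i hi) _ _ fun m => rfl).symm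
    rw [h4, Finset.mul_sum, ← Finset.sum_subset (Finset.subset_univ (fus x))]
    · refine Finset.sum_congr rfl fun m hm => ?_
      rw [← Finset.mul_sum, sum_col hx hi (mem_fus.1 hm).1, if_pos hm, hc]
      ring
    · intro m _ hm
      by_cases hm0 : m = 0
      · subst hm0
        simp only [hw0, _root_.MulZeroClass.zero_mul, _root_.map_zero, _root_.MulZeroClass.mul_zero, _root_.ZMod.val_zero, _root_.pow_zero, _root_.Finset.sum_const_zero]
      · rw [← Finset.mul_sum, sum_col hx hi hm0, if_neg hm, mul_zero]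
  rw [Finset.sum_congr rfl fun i _ => h3 i, ← Finset.mul_sum, Finset.sum_comm]
  have h5 : ∀ m : ZMod p, ∑ i : ZMod p, w i * conj (w (m * i)) =
      (p : ℂ) * ((if k * m = k then (1 : ℂ) else 0) - (if l * m = k then (1 : ℂ) else 0)
        - (if k * m = l then (1 : ℂ) else 0) + (if l * m = l then (1 : ℂ) else 0)) := by
    intro m
    have h6 : ∀ a b : ZMod p, ∑ i : ZMod p, (ZMod.stdAddChar (a * i) : ℂ) * conj (ZMod.stdAddChar (b * i) : ℂ) =
        if a = b then (p : ℂ) else 0 := by
      intro a b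
      have h7 := sum_stdAddChar (a - b)
      simp only [sub_eq_zero] at h7
      rw [← h7]
      refine Finset.sum_congr rfl fun i _ => ?_
      rw [conj_stdAddChar, ← AddChar.map_add_eq_mul]
      congr 1
      ring
    have h8 : ∀ i : ZMod p, w i * conj (w (m * i)) =
        (ZMod.stdAddChar (k * m * i) : ℂ) * conj (ZMod.stdAddChar (k * i) : ℂ)
        - (ZMod.stdAddChar (l * m * i) : ℂ) * conj (ZMod.stdAddChar (k * i) : ℂ)
        - (ZMod.stdAddChar (k * m * i) : ℂ) * conj (ZMod.stdAddChar (l * i) : ℂ)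
        + (ZMod.stdAddChar (l * m * i) : ℂ) * conj (ZMod.stdAddChar (l * i) : ℂ) := by
      intro i
      simp only [hw, map_sub, Complex.conj_conj, mul_assoc]
      ring
    rw [Finset.sum_congr rfl fun i _ => h8 i, Finset.sum_add_distrib, Finset.sum_sub_distrib,
      Finset.sum_sub_distrib, h6, h6, h6, h6]
    split_ifs <;> ring
  rw [Finset.sum_congr rfl fun m _ => h5 m, ← Finset.mul_sum]
  generalize ∑ m ∈ fus x, ((if k * m = k then (1 : ℂ) else 0) - (if l * m = k then (1 : ℂ) else 0)
        - (if k * m = l then (1 : ℂ) else 0) + (if l * m = l then (1 : ℂ) else 0)) = T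
  push_cast
  field_simp


theorem combin {κ : Type*} [Fintype κ] [DecidableEq κ] (n : κ → ℤ) {a b : κ} (hab : n a ≠ n b) :
    2 * ((Fintype.card κ : ℤ) - 1) ≤ ∑ i, ∑ j, (n i - n j) ^ 2 := by
  have hne : a ≠ b := fun h => hab (by rw [h])
  have h0 : ∀ u v w : ℤ, u ≠ v → 1 ≤ (u - w) ^ 2 + (v - w) ^ 2 := by
    intro u v w huv
    by_contra hcon
    push Not at hcon
    have h1 : (u - w) ^ 2 = 0 := by linarith only [hcon, sq_nonneg (u - w), sq_nonneg (v - w)]
    have h2 : (v - w) ^ 2 = 0 := by linarith only [hcon, sq_nonneg (u - w), sq_nonneg (v - w)]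
    have h3 := pow_eq_zero_iff (two_ne_zero) |>.1 h1
    have h4 := pow_eq_zero_iff (two_ne_zero) |>.1 h2
    omega
  rw [← Finset.add_sum_erase _ _ (Finset.mem_univ a),
    ← Finset.add_sum_erase _ _ (Finset.mem_erase.2 ⟨hne.symm, Finset.mem_univ b⟩), ← add_assoc,
    ← Finset.sum_add_distrib]
  have h1 : (Fintype.card κ : ℤ) ≤ ∑ j, ((n a - n j) ^ 2 + (n b - n j) ^ 2) := by
    have : ∑ j : κ, (1 : ℤ) ≤ ∑ j, ((n a - n j) ^ 2 + (n b - n j) ^ 2) :=
      Finset.sum_le_sum fun j _ => h0 _ _ _ hab
    simpa only [_root_.ge_iff_le, _root_.Finset.sum_const, _root_.Finset.card_univ, _root_.Int.nsmul_eq_mul, _root_.mul_one] using this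
  have hcard : 2 ≤ Fintype.card κ := by
    have := Fintype.one_lt_card_iff.2 ⟨a, b, hne⟩
    omega
  have h2 : (Fintype.card κ : ℤ) - 2 ≤
      ∑ i ∈ (Finset.univ.erase a).erase b, ∑ j, (n i - n j) ^ 2 := by
    have h3 : ∑ i ∈ (Finset.univ.erase a).erase b, (1 : ℤ) ≤
        ∑ i ∈ (Finset.univ.erase a).erase b, ∑ j, (n i - n j) ^ 2 := by
      refine Finset.sum_le_sum fun i _ => ?_
      have h4 : (n i - n a) ^ 2 + (n i - n b) ^ 2 ≤ ∑ j, (n i - n j) ^ 2 := by
        rw [← Finset.add_sum_erase _ _ (Finset.mem_univ a),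
          ← Finset.add_sum_erase _ _ (Finset.mem_erase.2 ⟨hne.symm, Finset.mem_univ b⟩), ← add_assoc]
        have : 0 ≤ ∑ j ∈ (Finset.univ.erase a).erase b, (n i - n j) ^ 2 :=
          Finset.sum_nonneg fun j _ => sq_nonneg _
        omega
      have h5 := h0 (n a) (n b) (n i) hab
      linarith only [h4, h5]
    rw [Finset.sum_const, Finset.card_erase_of_mem (Finset.mem_erase.2 ⟨hne.symm, Finset.mem_univ b⟩),
      Finset.card_erase_of_mem (Finset.mem_univ a), Finset.card_univ, nsmul_eq_mul, mul_one] at h3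
    have h6 : ((Fintype.card κ - 1 - 1 : ℕ) : ℤ) = (Fintype.card κ : ℤ) - 2 := by omega
    rw [h6] at h3
    exact h3
  linarith

/-- The conjugacy classes of nontrivial powers of `x`. -/
noncomputable def sing (p : ℕ) [Fact p.Prime] (x : G) : Finset (ConjClasses G) := by
  classical
  exact (Finset.univ.filter fun i : ZMod p => i ≠ 0).image fun i => ConjClasses.mk (x ^ i.val)

theorem mem_sing {x : G} {c : ConjClasses G} :
    c ∈ sing p x ↔ ∃ i : ZMod p, i ≠ 0 ∧ ConjClasses.mk (x ^ i.val) = c := by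
  classical
  simp [sing]

theorem card_fus_mul_card_sing {x : G} (hx : x ^ p = 1) :
    (fus (p := p) x).card * (sing p x).card = p - 1 := by
  classical
  have h1 : (Finset.univ.filter fun i : ZMod p => i ≠ 0).card = p - 1 := by
    rw [Finset.filter_ne', Finset.card_erase_of_mem (Finset.mem_univ _), Finset.card_univ, ZMod.card]
  rw [← h1, Finset.card_eq_sum_card_fiberwise (s := Finset.univ.filter fun i : ZMod p => i ≠ 0)
    (f := fun i : ZMod p => ConjClasses.mk (x ^ i.val)) (t := sing p x)]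
  · rw [Finset.sum_const_nat (m := (fus (p := p) x).card), mul_comm]
    intro c hc
    obtain ⟨r, hr, rfl⟩ := mem_sing.1 hc
    symm
    refine Finset.card_bij (fun m _ => m * r) ?_ ?_ ?_
    · intro m hm
      have hm0 := (mem_fus.1 hm).1
      simp only [Finset.mem_filter, Finset.mem_univ, true_and]
      refine ⟨mul_ne_zero hm0 hr, ?_⟩
      rw [ConjClasses.mk_eq_mk_iff_isConj, isConj_comm, isConj_pow_iff hx hr (mul_ne_zero hm0 hr), mul_assoc,
        mul_inv_cancel₀ hr, mul_one]
      exact hm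
    · intro a _ b _ h
      exact mul_right_cancel₀ hr h
    · intro j hj
      simp only [Finset.mem_filter, Finset.mem_univ, true_and] at hj
      refine ⟨j * r⁻¹, ?_, by rw [mul_assoc, inv_mul_cancel₀ hr, mul_one]⟩
      rw [← isConj_pow_iff hx hr hj.1, isConj_comm]
      exact ConjClasses.mk_eq_mk_iff_isConj.1 hj.2
  · intro i hi
    rw [Finset.mem_coe] at hi ⊢
    rw [mem_sing]
    exact ⟨i, (Finset.mem_filter.1 hi).2, rfl⟩

/-- At most `c * (e + t)` irreducible characters have nonconstant multiplicities on the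
subgroup generated by `x`. -/
theorem card_le [Finite G] {x : G} (hx : x ^ p = 1) {c : ℕ}
    (hc : Nat.card (Subgroup.centralizer ({x} : Set G)) = p * c) :
    Nat.card {χ : IrrCharacter G // ∃ k l : ZMod p, mlt x (χ : G → ℂ) k ≠ mlt x (χ : G → ℂ) l} ≤
      c * ((fus (p := p) x).card + (sing p x).card) := by
  classical
  have : Finite (IrrCharacter G) := finite_irr
  have := Fintype.ofFinite (IrrCharacter G)
  set e : ℕ := (fus (p := p) x).card with he
  set t : ℕ := (sing p x).card with ht
  have het : e * t = p - 1 := card_fus_mul_card_sing hx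
  have ht0 : 0 < t := by
    rcases Nat.eq_zero_or_pos t with h | h
    · rw [h, mul_zero] at het
      have := hp.out.two_le
      omega
    · exact h
  choose n hn using fun (χ : IrrCharacter G) (k : ZMod p) => mlt_isNat hx (isIrr_isCharacter χ.2) k
  choose rep hrep0 hrep using fun c : sing p x => mem_sing.1 c.2
  let r : Option (sing p x) → ZMod p := fun a => Option.elim a 0 rep
  -- sums over the characters
  have hS : ∀ k l : ZMod p, ((∑ χ : IrrCharacter G, ((n χ k : ℤ) - n χ l) ^ 2 : ℤ) : ℂ) =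
      (c : ℂ) * ∑ m ∈ fus x, ((if k * m = k then (1 : ℂ) else 0) - (if l * m = k then (1 : ℂ) else 0)
        - (if k * m = l then (1 : ℂ) else 0) + (if l * m = l then (1 : ℂ) else 0)) := by
    intro k l
    rw [← sum_sq hx hc k l]
    push_cast
    refine Finset.sum_congr rfl fun χ _ => ?_
    rw [hn χ k, hn χ l, map_sub, Complex.conj_natCast, Complex.conj_natCast]
    ring
  have hS1 : ∀ l : ZMod p, l ≠ 0 → ∑ χ : IrrCharacter G, ((n χ 0 : ℤ) - n χ l) ^ 2 = c * (e + 1) := by
    intro l hl
    have h1 := hS 0 l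
    have h2 : ∑ m ∈ fus x, ((if (0 : ZMod p) * m = 0 then (1 : ℂ) else 0) -
        (if l * m = 0 then (1 : ℂ) else 0)
        - (if (0 : ZMod p) * m = l then (1 : ℂ) else 0) + (if l * m = l then (1 : ℂ) else 0)) =
        (e : ℂ) + 1 := by
      have h3 : ∀ m ∈ fus x, ((if (0 : ZMod p) * m = 0 then (1 : ℂ) else 0) -
        (if l * m = 0 then (1 : ℂ) else 0)
        - (if (0 : ZMod p) * m = l then (1 : ℂ) else 0) + (if l * m = l then (1 : ℂ) else 0)) =
          1 + if m = 1 then 1 else 0 := by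
        intro m hm
        have hm0 := (mem_fus.1 hm).1
        have h4 : (l * m = l) ↔ m = 1 := by
          constructor
          · intro h
            exact mul_left_cancel₀ hl (by rw [h, mul_one])
          · rintro rfl
            rw [mul_one]
        simp [hm0, hl, hl.symm, h4]
      rw [Finset.sum_congr rfl h3, Finset.sum_add_distrib, Finset.sum_ite_eq' (fus x) (1 : ZMod p),
        if_pos one_mem_fus]
      simp [he]
    rw [h2] at h1
    exact_mod_cast h1
  have hS2 : ∀ a b : sing p x, a ≠ b →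
      ∑ χ : IrrCharacter G, ((n χ (rep a) : ℤ) - n χ (rep b)) ^ 2 = 2 * c := by
    intro a b hab
    have h1 := hS (rep a) (rep b)
    have hna : ∀ u v : sing p x, u ≠ v → ∀ m ∈ fus x, rep u * m ≠ rep v := by
      intro u v huv m hm h
      apply huv
      apply Subtype.ext
      rw [← hrep u, ← hrep v, ConjClasses.mk_eq_mk_iff_isConj, isConj_pow_iff hx (hrep0 u) (hrep0 v),
        ← h, mul_comm (rep u) m, mul_assoc, mul_inv_cancel₀ (hrep0 u), mul_one]
      exact hm
    have h2 : ∑ m ∈ fus x, ((if rep a * m = rep a then (1 : ℂ) else 0) -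
        (if rep b * m = rep a then (1 : ℂ) else 0)
        - (if rep a * m = rep b then (1 : ℂ) else 0) + (if rep b * m = rep b then (1 : ℂ) else 0)) =
        2 := by
      have h3 : ∀ m ∈ fus x, ((if rep a * m = rep a then (1 : ℂ) else 0) -
        (if rep b * m = rep a then (1 : ℂ) else 0)
        - (if rep a * m = rep b then (1 : ℂ) else 0) + (if rep b * m = rep b then (1 : ℂ) else 0)) =
          2 * if m = 1 then 1 else 0 := by
        intro m hm
        have h4 : ∀ u : sing p x, (rep u * m = rep u) ↔ m = 1 := by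
          intro u
          constructor
          · intro h
            exact mul_left_cancel₀ (hrep0 u) (by rw [h, mul_one])
          · rintro rfl
            rw [mul_one]
        simp only [h4, if_neg (hna a b hab m hm), if_neg (hna b a hab.symm m hm)]
        split_ifs <;> norm_num
      rw [Finset.sum_congr rfl h3, ← Finset.mul_sum, Finset.sum_ite_eq' (fus x) (1 : ZMod p),
        if_pos one_mem_fus, mul_one]
    rw [h2, mul_comm] at h1
    exact_mod_cast h1
  -- the total
  have htot : ∑ χ : IrrCharacter G, ∑ a : Option (sing p x), ∑ b : Option (sing p x),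
      ((n χ (r a) : ℤ) - n χ (r b)) ^ 2 = 2 * t * c * (e + t) := by
    rw [Finset.sum_comm]
    have h1 : ∀ a : Option (sing p x), ∑ χ : IrrCharacter G, ∑ b : Option (sing p x),
        ((n χ (r a) : ℤ) - n χ (r b)) ^ 2 = ∑ b : Option (sing p x), ∑ χ : IrrCharacter G,
        ((n χ (r a) : ℤ) - n χ (r b)) ^ 2 := fun a => Finset.sum_comm
    rw [Finset.sum_congr rfl fun a _ => h1 a, Fintype.sum_option]
    simp only [Fintype.sum_option]
    have h2 : ∀ a : sing p x, ∑ b : sing p x, ∑ χ : IrrCharacter G,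
        ((n χ (rep a) : ℤ) - n χ (rep b)) ^ 2 = 2 * c * (t - 1) := by
      intro a
      rw [← Finset.add_sum_erase _ _ (Finset.mem_univ a)]
      have h3 : ∑ b ∈ Finset.univ.erase a, ∑ χ : IrrCharacter G,
        ((n χ (rep a) : ℤ) - n χ (rep b)) ^ 2 = ∑ b ∈ Finset.univ.erase a, (2 * c : ℤ) :=
        Finset.sum_congr rfl fun b hb => hS2 a b (Finset.mem_erase.1 hb).1.symm
      rw [h3, Finset.sum_const, Finset.card_erase_of_mem (Finset.mem_univ a), Finset.card_univ,
        Fintype.card_coe, nsmul_eq_mul, ← ht]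
      have h4 : ((t - 1 : ℕ) : ℤ) = (t : ℤ) - 1 := by omega
      rw [h4]
      simp only [_root_.sub_self, _root_.ne_eq, _root_.OfNat.ofNat_ne_zero, _root_.not_false_eq_true, _root_.zero_pow, _root_.Finset.sum_const_zero, _root_.zero_add]
      ring
    have h5 : ∀ a : sing p x, ∑ χ : IrrCharacter G, ((n χ (rep a) : ℤ) - n χ 0) ^ 2 = c * (e + 1) := by
      intro a
      rw [← hS1 (rep a) (hrep0 a)]
      exact Finset.sum_congr rfl fun χ _ => by ring
    have h6 : ∀ a : sing p x, ∑ χ : IrrCharacter G, ((n χ 0 : ℤ) - n χ (rep a)) ^ 2 = c * (e + 1) :=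
      fun a => hS1 (rep a) (hrep0 a)
    show ∑ χ : IrrCharacter G, ((n χ 0 : ℤ) - n χ 0) ^ 2 + ∑ b : sing p x, ∑ χ : IrrCharacter G,
      ((n χ 0 : ℤ) - n χ (rep b)) ^ 2 + ∑ a : sing p x, (∑ χ : IrrCharacter G,
      ((n χ (rep a) : ℤ) - n χ 0) ^ 2 + ∑ b : sing p x, ∑ χ : IrrCharacter G,
      ((n χ (rep a) : ℤ) - n χ (rep b)) ^ 2) = _
    rw [Finset.sum_congr rfl fun a _ => h6 a,
      Finset.sum_congr rfl fun a _ => congrArg₂ (· + ·) (h5 a) (h2 a)]
    simp only [Finset.sum_const, Finset.card_univ, Fintype.card_coe, nsmul_eq_mul, ← ht]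
    simp only [_root_.sub_self, _root_.ne_eq, _root_.OfNat.ofNat_ne_zero, _root_.not_false_eq_true, _root_.zero_pow, _root_.Finset.sum_const_zero, _root_.zero_add]
    ring
  -- the lower bound
  set F := {χ : IrrCharacter G // ∃ k l : ZMod p, mlt x (χ : G → ℂ) k ≠ mlt x (χ : G → ℂ) l} with hF
  have := Fintype.ofFinite F
  have hlow : ∀ χ : F, (2 * t : ℤ) ≤ ∑ a : Option (sing p x), ∑ b : Option (sing p x),
      ((n χ.1 (r a) : ℤ) - n χ.1 (r b)) ^ 2 := by
    rintro ⟨χ, k, l, hkl⟩
    have h1 : ∀ k : ZMod p, ∃ a : Option (sing p x), mlt x (χ : G → ℂ) k = mlt x (χ : G → ℂ) (r a) := by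
      intro k
      by_cases hk : k = 0
      · exact ⟨none, by rw [hk]; rfl⟩
      · have h2 : ConjClasses.mk (x ^ k.val) ∈ sing p x := mem_sing.2 ⟨k, hk, rfl⟩
        refine ⟨some ⟨_, h2⟩, ?_⟩
        show _ = mlt x (χ : G → ℂ) (rep ⟨_, h2⟩)
        have h3 := hrep ⟨_, h2⟩
        have h4 := hrep0 ⟨_, h2⟩
        set q := rep ⟨_, h2⟩
        have h5 : k * q⁻¹ ∈ fus x := by
          rw [← isConj_pow_iff hx h4 hk]
          exact ConjClasses.mk_eq_mk_iff_isConj.1 h3
        have h6 := mem_fus.1 h5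
        rw [← mlt_mul hx (isIrr_isClassFunction χ.2) h6.1 h6.2 q, mul_comm, mul_assoc,
          inv_mul_cancel₀ h4, mul_one]
    obtain ⟨a, ha⟩ := h1 k
    obtain ⟨b, hb⟩ := h1 l
    have hab : ((n χ (r a) : ℤ)) ≠ n χ (r b) := by
      intro h
      apply hkl
      rw [ha, hb, hn, hn]
      exact_mod_cast h
    have h7 := combin (fun a : Option (sing p x) => (n χ (r a) : ℤ)) hab
    rw [Fintype.card_option, Fintype.card_coe, ← ht] at h7
    push_cast at h7
    linarith only [hp, hkl, h7]
  have h8 : (Nat.card F : ℤ) * (2 * t) ≤ 2 * t * c * (e + t) := by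
    rw [← htot]
    have h9 : ∑ χ : F, (2 * t : ℤ) ≤ ∑ χ : F, ∑ a : Option (sing p x), ∑ b : Option (sing p x),
      ((n χ.1 (r a) : ℤ) - n χ.1 (r b)) ^ 2 := Finset.sum_le_sum fun χ _ => hlow χ
    rw [Finset.sum_const, Finset.card_univ, nsmul_eq_mul, ← Nat.card_eq_fintype_card] at h9
    refine h9.trans ?_
    have h10 : ∑ χ : F, ∑ a : Option (sing p x), ∑ b : Option (sing p x),
        ((n χ.1 (r a) : ℤ) - n χ.1 (r b)) ^ 2 =
        ∑ χ ∈ Finset.univ.filter (fun χ : IrrCharacter G => ∃ k l : ZMod p,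
          mlt x (χ : G → ℂ) k ≠ mlt x (χ : G → ℂ) l), ∑ a : Option (sing p x),
          ∑ b : Option (sing p x), ((n χ (r a) : ℤ) - n χ (r b)) ^ 2 := by
      exact (Finset.sum_subtype (Finset.univ.filter (fun χ : IrrCharacter G => ∃ k l : ZMod p,
          mlt x (χ : G → ℂ) k ≠ mlt x (χ : G → ℂ) l)) (fun χ => by simp only [_root_.ne_eq, _root_.Finset.mem_filter, _root_.Finset.mem_univ, _root_.true_and]) (fun χ =>
          ∑ a : Option (sing p x), ∑ b : Option (sing p x), ((n χ (r a) : ℤ) - n χ (r b)) ^ 2)).symm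
    rw [h10]
    exact Finset.sum_le_sum_of_subset_of_nonneg (Finset.filter_subset _ _) fun χ _ _ =>
      Finset.sum_nonneg fun a _ => Finset.sum_nonneg fun b _ => sq_nonneg _
  have h11 : (Nat.card F : ℤ) * (2 * t) ≤ (c * (e + t) : ℤ) * (2 * t) := by linarith only [h8]
  have h12 := le_of_mul_le_mul_right h11 (by (clear * - ht0; positivity))
  exact_mod_cast h12

end Cfsg.Agent.H713.Count
end

-- part: H713/Engine
section
/-!
# Characters of defect zero and the property `Star` (helper713)

* `HasDZ.vz` : a character of `p`-defect zero makes every `p`-singular element a `VZ` element.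
* `card_fus_mul` : `e * c` is congruent to `#G / p` modulo `p` when the Sylow subgroups have order `p`.
* `hasDZ_of_card_classes`, `hasDZ_of_regular` : existence of characters of defect zero by counting.
* `hasDZ_of_odd` : existence when `#G / p` is odd modulo `p`.
* `Star.dvd` : under `Star` and defect zero, `p` divides `#G / p + 1`.
-/

set_option autoImplicit false
set_option linter.dupNamespace false

namespace Cfsg.Agent.H713

open Cfsg Cfsg.Agent.Characters.Core Cfsg.Agent.Blocks.Basic Cfsg.Agent.H665.NoPQ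
open Cfsg.Agent.H713.Count
open scoped ComplexConjugate

universe u v

variable {G : Type*} [Group G]

theorem irr_zero_of_singular [Finite G] {p : ℕ} [hp : Fact p.Prime] {χ : IrrCharacter G}
    (hχ : (charDegree (χ : G → ℂ)).factorization p = (Nat.card G).factorization p) {x : G}
    (hx : p ∣ orderOf x) : (χ : G → ℂ) x = 0 := by
  have h1 := irr_one_eq_charDegree χ.2
  obtain ⟨n, ρ, hρ, h⟩ := χ.2
  rw [← h] at h1 ⊢
  rw [Representation.char_one] at h1
  have h2 : Module.finrank ℂ (Fin n → ℂ) = charDegree (χ : G → ℂ) := by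
    rw [← h]
    exact_mod_cast h1
  refine Cfsg.Agent.S0165.result ρ p ((Nat.card G).factorization p) hp.out (Nat.ordProj_dvd _ _)
    (Nat.pow_succ_factorization_not_dvd Nat.card_pos.ne' hp.out) ?_ x hx
  rw [h2, ← hχ]
  exact Nat.ordProj_dvd _ _

/-- A character of `p`-defect zero: every `p`-singular element is `VZ`. -/
theorem HasDZ.vz [Finite G] {p : ℕ} [hp : Fact p.Prime] (h : HasDZ p G) {x : G}
    (hx : p ∣ orderOf x) : VZ G x := by
  obtain ⟨χ, hχ⟩ := h
  refine ⟨χ, fun α => irr_zero_of_singular hχ ?_⟩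
  rwa [MulEquiv.orderOf_eq]

theorem HasDZ.van [Finite G] {p : ℕ} [hp : Fact p.Prime] (h : HasDZ p G) {x : G}
    (hx : p ∣ orderOf x) : Van G x := (HasDZ.vz h hx).van

theorem HasDZ.mulEquiv {p : ℕ} {H : Type*} [Group H] (e : G ≃* H) (h : HasDZ p G) : HasDZ p H := by
  obtain ⟨χ, hχ⟩ := h
  refine ⟨⟨(χ : G → ℂ) ∘ e.symm, isIrr_comp (e.symm : H →* G) e.symm.surjective χ.2⟩, ?_⟩
  have h1 : charDegree ((χ : G → ℂ) ∘ e.symm) = charDegree (χ : G → ℂ) := by
    rw [charDegree_def, charDegree_def]
    simp only [_root_.Function.comp_apply, _root_.map_one]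
  rw [h1, hχ, Nat.card_congr e.toEquiv]

/-- Characters of defect zero lift to overgroups of index prime to `p`. -/
theorem HasDZ.of_normal [Finite G] {p : ℕ} [Fact p.Prime] (N : Subgroup G) [N.Normal]
    (hN : ¬ p ∣ N.index) (h : HasDZ p N) : HasDZ p G := by
  classical
  obtain ⟨θ, hθ⟩ := h
  have := Fintype.ofFinite G
  have := Fintype.ofFinite N
  have := finite_irr (G := N)
  have := Fintype.ofFinite (IrrCharacter N)
  obtain ⟨χ, hχ, hne⟩ := Cfsg.Agent.CharDeep.PowerDegrees.exists_irr_over N θ.2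
  obtain ⟨m, hm⟩ := exists_nat_comb (Cfsg.Agent.Characters.Clifford.isCharacter_restrict N
    (isIrr_isCharacter hχ))
  have h1 : (charDegree χ : ℂ) = ((∑ η : IrrCharacter N, m η) * charDegree (θ : N → ℂ) : ℕ) := by
    rw [← irr_one_eq_charDegree hχ]
    have h2 := congrFun hm 1
    simp only [Finset.sum_apply, Pi.smul_apply, OneMemClass.coe_one] at h2
    rw [h2, Finset.sum_mul]
    push_cast
    refine Finset.sum_congr rfl fun η _ => ?_
    by_cases hη : m η = 0
    · simp [hη]
    · have h3 : classInner (fun n : N => χ n) (η : N → ℂ) ≠ 0 := by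
        rw [hm, classInner_sum_nsmul_irr]
        exact_mod_cast hη
      obtain ⟨g, hg⟩ := Cfsg.Agent.Characters.Clifford.exists_conj_of_constituents N hχ θ.2 η.2 hne h3
      have h4 : (η : N → ℂ) 1 = (θ : N → ℂ) 1 := by
        rw [hg]
        simp only [_root_.Function.comp_apply, _root_.map_one]
      rw [h4, irr_one_eq_charDegree θ.2, nsmul_eq_mul]
  have h5 : charDegree (θ : N → ℂ) ∣ charDegree χ := by
    have : charDegree χ = (∑ η : IrrCharacter N, m η) * charDegree (θ : N → ℂ) := by exact_mod_cast h1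
    exact ⟨_, by rw [this, mul_comm]⟩
  refine ⟨⟨χ, hχ⟩, le_antisymm ?_ ?_⟩
  · exact (Nat.factorization_le_iff_dvd (charDegree_pos hχ).ne' Nat.card_pos.ne').2
      (Cfsg.Agent.Blocks.Knorr.charDegree_dvd hχ) p
  · have h6 := (Nat.factorization_le_iff_dvd (charDegree_pos θ.2).ne' (charDegree_pos hχ).ne').2 h5 p
    rw [hθ] at h6
    have h7 : (Nat.card G).factorization p = (Nat.card N).factorization p := by
      rw [← N.card_mul_index, Nat.factorization_mul Nat.card_pos.ne' Subgroup.index_ne_zero_of_finite,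
        Finsupp.add_apply, Nat.factorization_eq_zero_of_not_dvd hN, add_zero]
    rw [h7]
    exact h6

section prime

variable {p : ℕ} [hp : Fact p.Prime]

/-- The normalizer of a subgroup of prime order. -/
theorem card_normalizer_zpowers [Finite G] {x : G} (hx : orderOf x = p) :
    Nat.card (Subgroup.normalizer (Subgroup.zpowers x : Set G)) =
      (fus (p := p) x).card * Nat.card (Subgroup.centralizer ({x} : Set G)) := by
  classical
  have hxp : x ^ p = 1 := by rw [← hx]; exact pow_orderOf_eq_one x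
  have hmem : ∀ g : G, g ∈ Subgroup.normalizer (Subgroup.zpowers x : Set G) ↔
      ∃ m : ZMod p, g * x * g⁻¹ = x ^ m.val := by
    intro g
    constructor
    · intro hg
      have h1 : g * x * g⁻¹ ∈ Subgroup.zpowers x :=
        (Subgroup.mem_normalizer_iff.1 hg x).1 (Subgroup.mem_zpowers x)
      rw [← mem_powers_iff_mem_zpowers] at h1
      obtain ⟨k, hk⟩ := h1
      refine ⟨(k : ZMod p), ?_⟩
      rw [← hk, ZMod.val_natCast]
      show x ^ k = _
      conv_lhs => rw [← Nat.mod_add_div k p, pow_add, pow_mul, hxp, one_pow, mul_one]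
    · rintro ⟨m, hm⟩
      have h1 : (Subgroup.zpowers x).map (MulAut.conj g).toMonoidHom ≤ Subgroup.zpowers x := by
        rw [MonoidHom.map_zpowers, Subgroup.zpowers_le]
        show g * x * g⁻¹ ∈ _
        rw [hm]
        exact Subgroup.pow_mem _ (Subgroup.mem_zpowers x) _
      have h2 : (Subgroup.zpowers x).map (MulAut.conj g).toMonoidHom = Subgroup.zpowers x := by
        refine Subgroup.eq_of_le_of_card_ge h1 ?_
        rw [Subgroup.card_map_of_injective (MulAut.conj g).injective]
      rw [Subgroup.mem_normalizer_iff_map_conj_eq]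
      exact h2
  have hm0 : ∀ g : G, ∀ m : ZMod p, g * x * g⁻¹ = x ^ m.val → m ∈ fus x := by
    intro g m hm
    rw [mem_fus]
    refine ⟨?_, isConj_iff.2 ⟨g, hm⟩⟩
    rintro rfl
    rw [ZMod.val_zero, pow_zero] at hm
    have h1 : x = 1 := by
      have : g * x * g⁻¹ = 1 := hm
      rwa [conj_eq_one_iff] at this
    rw [h1, orderOf_one] at hx
    exact hp.out.one_lt.ne hx
  choose! k hk using fun m : ZMod p => fun hm : m ∈ fus x => isConj_iff.1 (mem_fus.1 hm).2
  have hinj : ∀ m m' : ZMod p, x ^ m.val = x ^ m'.val → m = m' := by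
    intro m m' h
    apply ZMod.val_injective p
    exact pow_injOn_Iio_orderOf (by rw [hx]; exact Set.mem_Iio.2 (ZMod.val_lt m))
      (by rw [hx]; exact Set.mem_Iio.2 (ZMod.val_lt m')) h
  have hC : ∀ c : G, c ∈ Subgroup.centralizer ({x} : Set G) ↔ c * x * c⁻¹ = x := by
    intro c
    rw [Subgroup.mem_centralizer_singleton_iff, mul_inv_eq_iff_eq_mul]
  have h1 : Nat.card ((fus (p := p) x) × Subgroup.centralizer ({x} : Set G)) =
      Nat.card (Subgroup.normalizer (Subgroup.zpowers x : Set G)) := by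
    refine Nat.card_congr (Equiv.ofBijective (fun q => ⟨k q.1 * q.2, ?_⟩) ⟨?_, ?_⟩)
    · rw [hmem]
      refine ⟨q.1, ?_⟩
      rw [← hk q.1 q.1.2]
      have := (hC _).1 q.2.2
      calc k q.1 * (q.2 : G) * x * (k q.1 * (q.2 : G))⁻¹ = k q.1 * ((q.2 : G) * x * (q.2 : G)⁻¹) * (k q.1)⁻¹ := by group
        _ = _ := by rw [this]
    · rintro ⟨⟨m, hm⟩, ⟨c, hc⟩⟩ ⟨⟨m', hm'⟩, ⟨c', hc'⟩⟩ h
      simp only [Subtype.mk.injEq] at h
      have h2 : ∀ m c : _, m ∈ fus (p := p) x → c ∈ Subgroup.centralizer ({x} : Set G) →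
          (k m * c) * x * (k m * c)⁻¹ = x ^ m.val := by
        intro m c hm hc
        rw [← hk m hm]
        have := (hC _).1 hc
        calc k m * c * x * (k m * c)⁻¹ = k m * (c * x * c⁻¹) * (k m)⁻¹ := by group
          _ = _ := by rw [this]
      have h3 := h2 m c hm hc
      rw [h, h2 m' c' hm' hc'] at h3
      have h4 := hinj _ _ h3
      subst h4
      have h5 : c = c' := mul_left_cancel h
      subst h5
      rfl
    · rintro ⟨g, hg⟩
      obtain ⟨m, hm⟩ := (hmem g).1 hg
      have hmf := hm0 g m hm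
      refine ⟨⟨⟨m, hmf⟩, ⟨(k m)⁻¹ * g, ?_⟩⟩, ?_⟩
      · rw [hC]
        calc (k m)⁻¹ * g * x * ((k m)⁻¹ * g)⁻¹ = (k m)⁻¹ * (g * x * g⁻¹) * k m := by group
          _ = (k m)⁻¹ * (k m * x * (k m)⁻¹) * k m := by rw [hm, hk m hmf]
          _ = x := by group
      · apply Subtype.ext
        simp
  rw [← h1, Nat.card_prod, Nat.card_eq_fintype_card, Fintype.card_coe]

/-- Sylow's theorem: `e * c` is congruent to `#G / p`. -/
theorem card_fus_mul [Finite G] (hG : (Nat.card G).factorization p = 1) {x : G} (hx : orderOf x = p)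
    {c : ℕ} (hc : Nat.card (Subgroup.centralizer ({x} : Set G)) = p * c) :
    (fus (p := p) x).card * c ≡ Nat.card G / p [MOD p] := by
  have hcard : Nat.card (Subgroup.zpowers x) = p ^ (Nat.card G).factorization p := by
    rw [Nat.card_zpowers, hx, hG, pow_one]
  let P : Sylow p G := Sylow.ofCard (Subgroup.zpowers x) hcard
  have h1 := card_sylow_modEq_one p G
  have h2 : Nat.card (Sylow p G) =
      (Subgroup.normalizer (Subgroup.zpowers x : Set G)).index := P.card_eq_index_normalizer
  have h3 := (Subgroup.normalizer (Subgroup.zpowers x : Set G)).card_mul_index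
  rw [card_normalizer_zpowers hx, hc, ← h2] at h3
  have h4 : Nat.card G / p = (fus (p := p) x).card * c * Nat.card (Sylow p G) := by
    rw [← h3]
    rw [show (fus (p := p) x).card * (p * c) * Nat.card (Sylow p G) =
      p * ((fus (p := p) x).card * c * Nat.card (Sylow p G)) by ring, Nat.mul_div_cancel_left _ hp.out.pos]
  rw [h4]
  have h5 := h1.mul_left ((fus (p := p) x).card * c)
  rw [mul_one] at h5
  exact h5.symm

/-- If `k(G) > c * (e + t)` then there is a character of `p`-defect zero. -/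
theorem hasDZ_of_card_classes [Finite G] (hG : (Nat.card G).factorization p = 1) {x : G}
    (hx : orderOf x = p) {c : ℕ} (hc : Nat.card (Subgroup.centralizer ({x} : Set G)) = p * c)
    (hk : c * ((fus (p := p) x).card + (sing p x).card) < Nat.card (ConjClasses G)) : HasDZ p G := by
  classical
  have hxp : x ^ p = 1 := by rw [← hx]; exact pow_orderOf_eq_one x
  have h1 := card_le hxp hc
  rw [← card_irr] at hk
  have : Finite (IrrCharacter G) := finite_irr
  obtain ⟨χ, hχ⟩ : ∃ χ : IrrCharacter G, ∀ k l : ZMod p, mlt x (χ : G → ℂ) k = mlt x (χ : G → ℂ) l := by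
    by_contra hcon
    push Not at hcon
    have h2 : Nat.card {χ : IrrCharacter G // ∃ k l : ZMod p, mlt x (χ : G → ℂ) k ≠ mlt x (χ : G → ℂ) l} =
        Nat.card (IrrCharacter G) :=
      Nat.card_congr (Equiv.subtypeUnivEquiv hcon)
    omega
  refine ⟨χ, ?_⟩
  obtain ⟨n, hn⟩ := mlt_isNat hxp (isIrr_isCharacter χ.2) 0
  have h3 : (charDegree (χ : G → ℂ) : ℂ) = ((p * n : ℕ) : ℂ) := by
    rw [← irr_one_eq_charDegree χ.2, ← sum_mlt (p := p) x (χ : G → ℂ),
      Finset.sum_congr rfl fun k _ => (hχ k 0).trans hn]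
    simp [ZMod.card]
  have h4 : charDegree (χ : G → ℂ) = p * n := by exact_mod_cast h3
  refine le_antisymm ?_ ?_
  · exact (Nat.factorization_le_iff_dvd (charDegree_pos χ.2).ne' Nat.card_pos.ne').2
      (Cfsg.Agent.Blocks.Knorr.charDegree_dvd χ.2) p
  · rw [hG]
    refine (hp.out.dvd_iff_one_le_factorization (charDegree_pos χ.2).ne').1 ⟨n, h4⟩

/-- `p`-regular elements in more than `e` classes and `#C_G(x) = p`: there is a character of
`p`-defect zero. -/
theorem hasDZ_of_regular [Finite G] (hG : (Nat.card G).factorization p = 1) {x : G}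
    (hx : orderOf x = p) (hc : Nat.card (Subgroup.centralizer ({x} : Set G)) = p)
    (s : Finset G) (hs : ∀ g ∈ s, ¬ p ∣ orderOf g) (hs2 : ∀ g ∈ s, ∀ h ∈ s, IsConj g h → g = h)
    (hcard : (Nat.card G / p) % p < s.card) : HasDZ p G := by
  classical
  have hxp : x ^ p = 1 := by rw [← hx]; exact pow_orderOf_eq_one x
  have h1 := card_fus_mul hG hx (c := 1) (by rw [hc, mul_one])
  have h2 := card_fus_mul_card_sing (p := p) hxp
  have hp2 := hp.out.two_le
  have h3 : (fus (p := p) x).card < p := by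
    have : 0 < (sing p x).card := by
      rcases Nat.eq_zero_or_pos (sing p x).card with h | h
      · rw [h, mul_zero] at h2
        omega
      · exact h
    have := Nat.le_mul_of_pos_right (fus (p := p) x).card this
    omega
  have h4 : (fus (p := p) x).card = (Nat.card G / p) % p := by
    rw [mul_one] at h1
    have := h1
    unfold Nat.ModEq at this
    rwa [Nat.mod_eq_of_lt h3] at this
  refine hasDZ_of_card_classes hG hx (c := 1) (by rw [hc, mul_one]) ?_
  rw [one_mul, h4]
  have hfin : Finite (ConjClasses G) := inferInstance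
  have := Fintype.ofFinite (ConjClasses G)
  have h5 : (s.image ConjClasses.mk ∪ sing p x).card = s.card + (sing p x).card := by
    rw [Finset.card_union_of_disjoint, Finset.card_image_of_injOn]
    · intro g hg h hh hgh
      exact hs2 g hg h hh (ConjClasses.mk_eq_mk_iff_isConj.1 hgh)
    · rw [Finset.disjoint_left]
      intro C hC hC'
      obtain ⟨g, hg, rfl⟩ := Finset.mem_image.1 hC
      obtain ⟨i, hi, hi'⟩ := mem_sing.1 hC'
      have h6 := ConjClasses.mk_eq_mk_iff_isConj.1 hi'
      apply hs g hg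
      have h7 : orderOf g = orderOf (x ^ i.val) := by
        obtain ⟨u, hu⟩ := isConj_iff.1 h6
        rw [← hu]
        simpa only [_root_.MulAut.conj_apply] using (MulEquiv.orderOf_eq (MulAut.conj u) (x ^ i.val))
      rw [h7, orderOf_pow, hx]
      have h8 : Nat.gcd p i.val = 1 := by
        rw [← Nat.coprime_iff_gcd_eq_one, Nat.Prime.coprime_iff_not_dvd hp.out]
        intro hd
        have := ZMod.val_lt i
        have h9 : i.val ≠ 0 := by
          rw [Ne, ZMod.val_eq_zero]
          exact hi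
        exact absurd (Nat.le_of_dvd (Nat.pos_of_ne_zero h9) hd) (by omega)
      rw [h8, Nat.div_one]
  rw [Nat.card_eq_fintype_card (α := ConjClasses G)]
  calc (Nat.card G / p) % p + (sing p x).card < s.card + (sing p x).card := by omega
    _ = (s.image ConjClasses.mk ∪ sing p x).card := h5.symm
    _ ≤ Fintype.card (ConjClasses G) := Finset.card_le_univ _

/-- The orders of `p`-regular elements give `p`-regular classes. -/
theorem hasDZ_of_orders [Finite G] (hG : (Nat.card G).factorization p = 1) {x : G}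
    (hx : orderOf x = p) (hc : Nat.card (Subgroup.centralizer ({x} : Set G)) = p)
    (s : Finset ℕ) (hs : ∀ n ∈ s, ¬ p ∣ n ∧ ∃ g : G, orderOf g = n)
    (hcard : (Nat.card G / p) % p < s.card) : HasDZ p G := by
  classical
  choose! f hf using fun (n : ℕ) (hn : n ∈ s) => (hs n hn).2
  refine hasDZ_of_regular hG hx hc (s.image f) ?_ ?_ ?_
  · intro g hg
    obtain ⟨n, hn, rfl⟩ := Finset.mem_image.1 hg
    rw [hf n hn]
    exact (hs n hn).1
  · intro g hg h hh hgh
    obtain ⟨n, hn, rfl⟩ := Finset.mem_image.1 hg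
    obtain ⟨m, hm, rfl⟩ := Finset.mem_image.1 hh
    have h1 : orderOf (f n) = orderOf (f m) := by
      obtain ⟨u, hu⟩ := isConj_iff.1 hgh
      rw [← hu]
      simpa only [_root_.MulAut.conj_apply] using (MulEquiv.orderOf_eq (MulAut.conj u) (f n)).symm
    rw [hf n hn, hf m hm] at h1
    rw [h1]
  · rw [Finset.card_image_of_injOn]
    · exact hcard
    · intro n hn m hm h
      rw [← hf n hn, ← hf m hm]
      exact congrArg orderOf h

/-- If `x` is not inverted and `#G / p` is odd modulo `p`. -/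
theorem not_isConj_inv_of_odd [Finite G] (hG : (Nat.card G).factorization p = 1) {x : G}
    (hx : orderOf x = p) (hc : Nat.card (Subgroup.centralizer ({x} : Set G)) = p) (hp2 : p ≠ 2)
    (hodd : Odd ((Nat.card G / p) % p)) : ¬ IsConj x x⁻¹ := by
  classical
  intro hinv
  have hxp : x ^ p = 1 := by rw [← hx]; exact pow_orderOf_eq_one x
  have h1 := card_fus_mul hG hx (c := 1) (by rw [hc, mul_one])
  have h2 := card_fus_mul_card_sing (p := p) hxp
  have hp2' := hp.out.two_le
  have h3 : (fus (p := p) x).card < p := by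
    have : 0 < (sing p x).card := by
      rcases Nat.eq_zero_or_pos (sing p x).card with h | h
      · rw [h, mul_zero] at h2
        omega
      · exact h
    have := Nat.le_mul_of_pos_right (fus (p := p) x).card this
    omega
  have h4 : (fus (p := p) x).card = (Nat.card G / p) % p := by
    rw [mul_one] at h1
    have := h1
    unfold Nat.ModEq at this
    rwa [Nat.mod_eq_of_lt h3] at this
  rw [← h4] at hodd
  have h5 : Even (fus (p := p) x).card := by
    have h6 : ∑ m ∈ fus (p := p) x, (1 : ZMod 2) = 0 := by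
      refine Finset.sum_involution (fun m _ => -m) (fun _ _ => by decide) ?_ ?_ (fun m _ => neg_neg m)
      · intro m hm _ h
        have h7 : (2 : ZMod p) * m = 0 := by
          rw [two_mul]
          nth_rewrite 1 [← h]
          simp
        rcases mul_eq_zero.1 h7 with h8 | h8
        · have h9 : ((2 : ℕ) : ZMod p) = 0 := by exact_mod_cast h8
          rw [ZMod.natCast_eq_zero_iff] at h9
          have := Nat.le_of_dvd (by norm_num) h9
          omega
        · exact (mem_fus.1 hm).1 h8
      · intro m hm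
        rw [mem_fus] at hm ⊢
        refine ⟨neg_ne_zero.2 hm.1, ?_⟩
        have h7 : x ^ (-m).val = (x⁻¹) ^ m.val := by
          rw [inv_pow, eq_inv_iff_mul_eq_one, pow_val_add hxp]
          simp
        rw [h7]
        exact hm.2.trans (hinv.pow m.val)
    rw [Finset.sum_const, nsmul_eq_mul, mul_one, ZMod.natCast_eq_zero_iff] at h6
    exact even_iff_two_dvd.2 h6
  exact (Nat.not_even_iff_odd.2 hodd) h5

/-- Existence of defect zero from an involution, when no element of order `p` is inverted. -/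
theorem hasDZ_of_not_inverted [Finite G] (s : G) (hs : s * s = 1)
    (hsc : ¬ p ∣ Nat.card (Subgroup.centralizer ({s} : Set G)))
    (h : ∀ x : G, orderOf x = p → ¬ IsConj x x⁻¹) : HasDZ p G := by
  rcases Cfsg.Agent.H665.DefZero.defectZero_or p s hsc with h1 | ⟨g, k, hg, hk, hne, n, hn⟩
  · exact h1
  · exfalso
    have hinv : ∀ u : G, IsConj s u → u⁻¹ = u := by
      intro u hu
      obtain ⟨c, rfl⟩ := isConj_iff.1 hu
      rw [mul_inv_rev, mul_inv_rev, inv_inv, inv_eq_of_mul_eq_one_left hs, mul_assoc]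
    have h2 : IsConj (g * k⁻¹) (g * k⁻¹)⁻¹ := by
      refine isConj_iff.2 ⟨g, ?_⟩
      rw [mul_inv_rev, inv_inv, hinv g hg, hinv k hk]
      have : g * g = 1 := by
        have := hinv g hg
        nth_rewrite 1 [← this]
        simp
      rw [← mul_assoc, this, one_mul]
    set y := g * k⁻¹ with hy
    have hn0 : n ≠ 0 := by
      rintro rfl
      rw [pow_zero, orderOf_eq_one_iff] at hn
      exact hne hn
    have h3 : orderOf (y ^ p ^ (n - 1)) = p := by
      rw [orderOf_pow, hn, Nat.gcd_eq_right (pow_dvd_pow p (Nat.sub_le n 1)),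
        Nat.pow_div (Nat.sub_le n 1) hp.out.pos]
      have : n - (n - 1) = 1 := by omega
      rw [this, pow_one]
    refine h _ h3 ?_
    have := h2.pow (p ^ (n - 1))
    rwa [inv_pow] at this

/-- Under `Star` and defect zero: elements of order `p` are self-centralizing and `p` divides
`#G / p + 1`. -/
theorem Star.centralizer_of_hasDZ [Finite G] (hst : Star G) (h : HasDZ p G) (hp2 : p ≠ 2)
    (hG : (Nat.card G).factorization p = 1) {x : G} (hx : orderOf x = p) :
    Nat.card (Subgroup.centralizer ({x} : Set G)) = p := by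
  have hodd : 2 < p := lt_of_le_of_ne hp.out.two_le (Ne.symm hp2)
  have hconj : ∀ y : G, p ∣ orderOf y → IsConj x y := fun y hy =>
    hst.isConj (HasDZ.van h (by rw [hx])) (HasDZ.van h hy) hodd (by rw [hx]) hy (orderOf_pos x)
  have hdvd : p ∣ Nat.card (Subgroup.centralizer ({x} : Set G)) := by
    have h1 : x ∈ Subgroup.centralizer ({x} : Set G) := Subgroup.mem_centralizer_singleton_iff.2 rfl
    rw [← hx, ← Subgroup.orderOf_mk x h1]
    exact orderOf_dvd_natCard _
  obtain ⟨c, hc⟩ := hdvd
  have hc1 : c = 1 := by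
    by_contra hne
    obtain ⟨r, hr, hrc⟩ := Nat.exists_prime_and_dvd hne
    have : Fact r.Prime := ⟨hr⟩
    have hrp : r ≠ p := by
      rintro rfl
      have h1 : r ^ 2 ∣ Nat.card G := by
        refine dvd_trans ?_ (Subgroup.card_subgroup_dvd_card (Subgroup.centralizer ({x} : Set G)))
        rw [hc, pow_two]
        exact Nat.mul_dvd_mul_left _ hrc
      have h2 := (hr.pow_dvd_iff_le_factorization Nat.card_pos.ne').1 h1
      omega
    obtain ⟨⟨y, hy⟩, hy'⟩ := exists_prime_orderOf_dvd_card' (G := Subgroup.centralizer ({x} : Set G)) r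
      (hrc.trans ⟨p, by rw [hc, mul_comm]⟩)
    rw [Subgroup.orderOf_mk] at hy'
    have hcom : Commute x y := (Subgroup.mem_centralizer_singleton_iff.1 hy).symm
    have h1 : orderOf (x * y) = p * r := by
      rw [hcom.orderOf_mul_eq_mul_orderOf_of_coprime, hx, hy']
      rw [hx, hy']
      exact (Nat.coprime_primes hp.out hr).2 (Ne.symm hrp)
    have h2 := hconj (x * y) (by rw [h1]; exact dvd_mul_right _ _)
    obtain ⟨u, hu⟩ := isConj_iff.1 h2
    have h3 : orderOf (x * y) = orderOf x := by
      rw [← hu]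
      simpa only [_root_.MulAut.conj_apply] using (MulEquiv.orderOf_eq (MulAut.conj u) x)
    rw [h1, hx] at h3
    have := hr.two_le
    have := hp.out.pos
    nlinarith
  rw [hc, hc1, mul_one]

theorem Star.dvd_of_hasDZ [Finite G] (hst : Star G) (h : HasDZ p G) (hp2 : p ≠ 2)
    (hG : (Nat.card G).factorization p = 1) : p ∣ Nat.card G / p + 1 := by
  classical
  have hpG : p ∣ Nat.card G := by
    have := Nat.ordProj_dvd (Nat.card G) p
    rwa [hG, pow_one] at this
  obtain ⟨x, hx⟩ := exists_prime_orderOf_dvd_card' p hpG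
  have hxp : x ^ p = 1 := by rw [← hx]; exact pow_orderOf_eq_one x
  have hc := hst.centralizer_of_hasDZ h hp2 hG hx
  have hodd : 2 < p := lt_of_le_of_ne hp.out.two_le (Ne.symm hp2)
  have hconj : ∀ y : G, p ∣ orderOf y → IsConj x y := fun y hy =>
    hst.isConj (HasDZ.van h (by rw [hx])) (HasDZ.van h hy) hodd (by rw [hx]) hy (orderOf_pos x)
  have h1 := card_fus_mul hG hx (c := 1) (by rw [hc, mul_one])
  have h2 : (fus (p := p) x).card = p - 1 := by
    have h3 : fus (p := p) x = Finset.univ.erase 0 := by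
      ext m
      rw [mem_fus, Finset.mem_erase]
      refine ⟨fun h => ⟨h.1, Finset.mem_univ _⟩, fun h => ⟨h.1, hconj _ ?_⟩⟩
      rw [orderOf_pow, hx]
      have h8 : Nat.gcd p m.val = 1 := by
        rw [← Nat.coprime_iff_gcd_eq_one, Nat.Prime.coprime_iff_not_dvd hp.out]
        intro hd
        have := ZMod.val_lt m
        have h9 : m.val ≠ 0 := by
          rw [Ne, ZMod.val_eq_zero]
          exact h.1
        exact absurd (Nat.le_of_dvd (Nat.pos_of_ne_zero h9) hd) (by omega)
      rw [h8, Nat.div_one]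
    rw [h3, Finset.card_erase_of_mem (Finset.mem_univ _), Finset.card_univ, ZMod.card]
  rw [h2, mul_one] at h1
  have h3 := h1.add_right 1
  have hp1 := hp.out.one_lt
  rw [Nat.sub_add_cancel hp1.le] at h3
  have h4 : p ≡ 0 [MOD p] := (Nat.modEq_zero_iff_dvd).2 dvd_rfl
  exact (Nat.modEq_zero_iff_dvd).1 (h3.symm.trans h4)

end prime

/-- The arithmetic criterion for an almost simple group: `S` has a character of `p`-defect zero,
`#S = p * k` and `p` does not divide `d * k + 1`, where `d` is the index of `S` in `G`. -/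
theorem not_star_of_dz {S : Type*} [Group S] [Finite S] [Finite G] {p : ℕ} [hp : Fact p.Prime]
    (hp2 : p ≠ 2) (hS : (Nat.card S).factorization p = 1) (h : HasDZ p S) (f : S →* G)
    (hf : Function.Injective f) (hn : f.range.Normal) (hd : ¬ p ∣ f.range.index)
    (har : ¬ p ∣ f.range.index * (Nat.card S / p) + 1) : ¬ Star G := by
  intro hst
  have e : S ≃* f.range := MonoidHom.ofInjective hf
  have h1 : HasDZ p G := HasDZ.of_normal f.range hd (HasDZ.mulEquiv e h)
  have hcS : Nat.card f.range = Nat.card S := (Nat.card_congr e.toEquiv).symm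
  have hcG : Nat.card G = Nat.card S * f.range.index := by rw [← hcS, Subgroup.card_mul_index]
  have hG : (Nat.card G).factorization p = 1 := by
    rw [hcG, Nat.factorization_mul Nat.card_pos.ne' Subgroup.index_ne_zero_of_finite,
      Finsupp.add_apply, hS, Nat.factorization_eq_zero_of_not_dvd hd]
  have h2 := hst.dvd_of_hasDZ h1 hp2 hG
  apply har
  have hpS : p ∣ Nat.card S := by
    have := Nat.ordProj_dvd (Nat.card S) p
    rwa [hS, pow_one] at this
  have h3 : Nat.card G / p = f.range.index * (Nat.card S / p) := by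
    rw [hcG, mul_comm, Nat.mul_div_assoc _ hpS]
  rwa [h3] at h2

/-- The element criterion: `S` has a character of `p`-defect zero, `p` odd, and an element of order
divisible by `p` and not equal to `p`. -/
theorem not_star_of_dz_of_orderOf {S : Type*} [Group S] [Finite S] [Finite G] {p : ℕ}
    [hp : Fact p.Prime] (hp2 : p ≠ 2) (h : HasDZ p S) (f : S →* G)
    (hf : Function.Injective f) (hn : f.range.Normal) {y : S} (hy : p ∣ orderOf y)
    (hy' : orderOf y ≠ p) : ¬ Star G := by
  intro hst
  have hodd : 2 < p := lt_of_le_of_ne hp.out.two_le (Ne.symm hp2)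
  obtain ⟨x, hx⟩ := exists_prime_orderOf_dvd_card' (G := S) p (hy.trans (orderOf_dvd_natCard y))
  have h1 := hst.isConj (van_of_vz f hf hn (HasDZ.vz h (x := x) (by rw [hx])))
    (van_of_vz f hf hn (HasDZ.vz h hy)) hodd (by rw [orderOf_injective f hf, hx])
    (by rwa [orderOf_injective f hf]) (orderOf_pos _)
  obtain ⟨u, hu⟩ := isConj_iff.1 h1
  have h3 : orderOf (f y) = orderOf (f x) := by
    rw [← hu]
    simpa only [_root_.MulAut.conj_apply] using (MulEquiv.orderOf_eq (MulAut.conj u) (f x))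
  rw [orderOf_injective f hf, orderOf_injective f hf, hx] at h3
  exact hy' h3

/-- The index of the socle times the order of the socle divides the order of the automorphism
group. -/
theorem index_mul_card_dvd {S : Type*} [Group S] [Finite S] [Finite G] (f : S →* G)
    (hf : Function.Injective f) (hn : f.range.Normal)
    (hc : Subgroup.centralizer (f.range : Set G) = ⊥) :
    f.range.index * Nat.card S ∣ Nat.card (MulAut S) := by
  have e : S ≃* f.range := MonoidHom.ofInjective hf
  have h1 : Nat.card (MulAut f.range) = Nat.card (MulAut S) :=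
    Nat.card_congr (MulAut.congr e).symm.toEquiv
  have h2 : Function.Injective (MulAut.conjNormal : G →* MulAut f.range) := by
    rw [injective_iff_map_eq_one]
    intro g hg
    have h3 : g ∈ Subgroup.centralizer (f.range : Set G) := by
      rw [Subgroup.mem_centralizer_iff]
      intro y hy
      have h4 := congrArg (fun a : MulAut f.range => ((a ⟨y, hy⟩ : f.range) : G)) hg
      simp only [MulAut.conjNormal_apply, MulAut.one_apply] at h4
      exact (mul_inv_eq_iff_eq_mul.1 h4).symm
    rw [hc, Subgroup.mem_bot] at h3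
    exact h3
  have h5 : Nat.card G = f.range.index * Nat.card S := by
    rw [← Subgroup.index_mul_card f.range, Nat.card_congr e.toEquiv]
  rw [← h5, ← h1]
  have : Finite (MulAut f.range) := inferInstance
  exact Subgroup.card_dvd_of_injective _ h2

/-- A row from a character of defect zero and an element of composite order. -/
theorem Row.of_dz {S : Type v} [Group S] [Finite S] {p : ℕ} [hp : Fact p.Prime]
    (hp2 : p ≠ 2) (h : HasDZ p S) {y : S} (hy : p ∣ orderOf y) (hy' : orderOf y ≠ p) :
    Row.{u, v} S where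
  vz := by
    have hodd : 2 < p := lt_of_le_of_ne hp.out.two_le (Ne.symm hp2)
    exact ⟨y, hodd.trans_le (Nat.le_of_dvd (orderOf_pos y) hy), HasDZ.vz h hy⟩
  as := fun G _ _ f hf hn _ => not_star_of_dz_of_orderOf hp2 h f hf hn hy hy'

/-- A row from the arithmetic criterion, when the possible indices are known. -/
theorem Row.of_arith {S : Type v} [Group S] [Finite S] {p : ℕ} [hp : Fact p.Prime]
    (hp2 : p ≠ 2) (hS : (Nat.card S).factorization p = 1) (h : HasDZ p S)
    (hd : ∀ (G : Type u) [Group G] [Finite G] (f : S →* G), Function.Injective f → f.range.Normal →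
      Subgroup.centralizer (f.range : Set G) = ⊥ → ¬ p ∣ f.range.index ∧
        ¬ p ∣ f.range.index * (Nat.card S / p) + 1) : Row.{u, v} S where
  vz := by
    have hodd : 2 < p := lt_of_le_of_ne hp.out.two_le (Ne.symm hp2)
    have hpS : p ∣ Nat.card S := by
      have := Nat.ordProj_dvd (Nat.card S) p
      rwa [hS, pow_one] at this
    obtain ⟨x, hx⟩ := exists_prime_orderOf_dvd_card' (G := S) p hpS
    exact ⟨x, by rwa [hx], HasDZ.vz h (by rw [hx])⟩
  as := fun G _ _ f hf hn hc => not_star_of_dz hp2 hS h f hf hn (hd G f hf hn hc).1 (hd G f hf hn hc).2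

/-- The arithmetic criterion with the order of the automorphism group. -/
theorem Row.of_arith_out {S : Type v} [Group S] [Finite S] {p o : ℕ} [hp : Fact p.Prime]
    (hp2 : p ≠ 2) (hS : (Nat.card S).factorization p = 1) (h : HasDZ p S)
    (ho : Nat.card (MulAut S) ∣ o * Nat.card S)
    (hd : ∀ d, d ∣ o → ¬ p ∣ d ∧ ¬ p ∣ d * (Nat.card S / p) + 1) : Row.{u, v} S := by
  refine Row.of_arith hp2 hS h fun G _ _ f hf hn hc => hd _ ?_
  have h1 := (index_mul_card_dvd f hf hn hc).trans ho
  exact Nat.dvd_of_mul_dvd_mul_right Nat.card_pos h1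

end Cfsg.Agent.H713
end

private theorem dce_59fb071d7e2a : _root_.True := by
  try have : _root_.True := by simp only [_root_.Cfsg.Agent.H713.Count.mlt.eq_1]
  try have : _root_.True := by simp only [_root_.Cfsg.Agent.H713.Count.mlt.congr_simp]
  try have : _root_.True := by simp only [_root_.Cfsg.Agent.H713.Count.sing.eq_1]
  try have : _root_.True := by simp only [_root_.Cfsg.Agent.H713.Count.fus.eq_1]
  try have : _root_.True := by simp only [_root_.Cfsg.Agent.H713.Count.fus.congr_simp]
  try have : _root_.True := by simp only [_root_.Cfsg.Agent.H713.Count.sing.congr_simp]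
  exact _root_.True.intro
end

-- part: H713/Invol
section
prune_inst 0x2000000000000000000000000000000000000000
set_option linter.all false
open scoped Cfsg.Agent.FastGrp

/-!
# Characters of defect zero from the involutions (helper713)

* `hasDZ_of_two_classes` : `p` does not divide the order of the centralizer of any involution and
  there are two non-conjugate involutions.
* `hasDZ_of_card` : the numerical criterion when all centralizers of involutions have order `m`.
-/

set_option autoImplicit false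
set_option linter.unusedSectionVars false

namespace Cfsg.Agent.H713

open Cfsg Cfsg.Agent.Characters.Core Cfsg.Agent.Blocks.Basic Cfsg.Agent.H665.NoPQ
open Cfsg.Agent.H713.Count Cfsg.Agent.H665.OddCent
open scoped ComplexConjugate

variable {G : Type*} [Group G] {p : ℕ} [hp : Fact p.Prime]

theorem oddCent_of_invol [Finite G] (h : ∀ u : G, orderOf u = 2 →
    ¬ p ∣ Nat.card (Subgroup.centralizer ({u} : Set G))) : OddCent p G := by
  intro g hg ⟨k, hk⟩
  by_contra hodd
  rw [Nat.not_odd_iff_even, even_iff_two_dvd] at hodd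
  have : Fact (Nat.Prime 2) := ⟨Nat.prime_two⟩
  obtain ⟨⟨u, hu⟩, hu2⟩ := exists_prime_orderOf_dvd_card' 2 hodd
  rw [Subgroup.orderOf_mk] at hu2
  apply h u hu2
  have h1 : g ∈ Subgroup.centralizer ({u} : Set G) := by
    rw [Subgroup.mem_centralizer_singleton_iff] at hu ⊢
    exact hu.symm
  have hk0 : k ≠ 0 := by
    rintro rfl
    rw [pow_zero, orderOf_eq_one_iff] at hk
    exact hg hk
  refine (dvd_pow_self p hk0).trans ?_
  rw [← hk, ← Subgroup.orderOf_mk g h1]
  exact orderOf_dvd_natCard _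

theorem orderOf_two {u : G} (h : orderOf u = 2) : u * u = 1 ∧ u ≠ 1 := by
  refine ⟨by rw [← pow_two, ← h, pow_orderOf_eq_one], ?_⟩
  rintro rfl
  rw [orderOf_one] at h
  exact absurd h (by norm_num)

/-- Two non-conjugate involutions and `p` prime to the orders of the centralizers of involutions. -/
theorem hasDZ_of_two_classes [Finite G] (h : ∀ u : G, orderOf u = 2 →
    ¬ p ∣ Nat.card (Subgroup.centralizer ({u} : Set G))) {s t : G} (hs : orderOf s = 2)
    (ht : orderOf t = 2) (hst : ¬ IsConj s t) : HasDZ p G := by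
  by_contra hno
  exact hst (isConj_of_no_defectZero (oddCent_of_invol h) hno (orderOf_two hs).1 (orderOf_two hs).2
    (orderOf_two ht).1 (orderOf_two ht).2)

theorem even_fus {x : G} (hxp : x ^ p = 1) (hp2 : p ≠ 2) (hinv : IsConj x x⁻¹) :
    Even (fus (p := p) x).card := by
  have hp2' := hp.out.two_le
  have h6 : ∑ m ∈ fus (p := p) x, (1 : ZMod 2) = 0 := by
    refine Finset.sum_involution (fun m _ => -m) (fun _ _ => by decide) ?_ ?_ (fun m _ => neg_neg m)
    · intro m hm _ h
      have h7 : (2 : ZMod p) * m = 0 := by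
        rw [two_mul]
        nth_rewrite 1 [← h]
        simp
      rcases mul_eq_zero.1 h7 with h8 | h8
      · have h9 : ((2 : ℕ) : ZMod p) = 0 := by exact_mod_cast h8
        rw [ZMod.natCast_eq_zero_iff] at h9
        have := Nat.le_of_dvd (by norm_num) h9
        omega
      · exact (mem_fus.1 hm).1 h8
    · intro m hm
      rw [mem_fus] at hm ⊢
      refine ⟨neg_ne_zero.2 hm.1, ?_⟩
      have h7 : x ^ (-m).val = (x⁻¹) ^ m.val := by
        rw [inv_pow, eq_inv_iff_mul_eq_one, pow_val_add hxp]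
        simp
      rw [h7]
      exact hm.2.trans (hinv.pow m.val)
  rw [Finset.sum_const, nsmul_eq_mul, mul_one, ZMod.natCast_eq_zero_iff] at h6
  exact even_iff_two_dvd.2 h6

/-- If no degree is divisible by `p` then `p ^ 2` divides the number of pairs of conjugates of `t`
whose product is in the subgroup generated by `x`. -/
theorem sq_dvd_of_no_dz [Finite G] (hG : (Nat.card G).factorization p = 1)
    (hno : ∀ χ : IrrCharacter G, ¬ p ∣ charDegree (χ : G → ℂ)) {x t : G} (hx : x ^ p = 1) {m : ℕ}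
    (hm : Nat.card (Subgroup.centralizer ({t} : Set G)) = m) (hpm : ¬ p ∣ m) :
    p ^ 2 ∣ ∑ i : ZMod p, Nat.card {q : G × G // IsConj t q.1 ∧ IsConj t q.2 ∧ q.1 * q.2 = x ^ i.val} := by
  classical
  have := Fintype.ofFinite G
  have : Finite (IrrCharacter G) := finite_irr
  have := Fintype.ofFinite (IrrCharacter G)
  choose n hn using fun χ : IrrCharacter G => mlt_isNat hx (isIrr_isCharacter χ.2) 0
  set I : ℕ := (Subgroup.centralizer ({t} : Set G)).index with hI
  have hImG : (m : ℂ) * I = Nat.card G := by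
    rw [← hm]
    exact_mod_cast (Subgroup.centralizer ({t} : Set G)).card_mul_index
  set N : ℕ := ∑ i : ZMod p, Nat.card {q : G × G // IsConj t q.1 ∧ IsConj t q.2 ∧ q.1 * q.2 = x ^ i.val}
    with hN
  have hp0 : (p : ℂ) ≠ 0 := by exact_mod_cast hp.out.ne_zero
  have hG0 : (Nat.card G : ℂ) ≠ 0 := card_ne_zero_complex
  have hI0 : (I : ℂ) ≠ 0 := by
    rw [hI]; exact_mod_cast Subgroup.index_ne_zero_of_finite
  set T : ℂ := ∑ χ : IrrCharacter G, (χ : G → ℂ) t * (χ : G → ℂ) t * n χ / (χ : G → ℂ) 1 with hT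
  have h1 : (N : ℂ) = (I : ℂ) * I / (Nat.card G : ℂ) * ((p : ℂ) * T) := by
    rw [hN, Nat.cast_sum, Finset.sum_congr rfl fun i _ =>
      Cfsg.Agent.Characters.ClassMul.card_class_mul t t (x ^ i.val), ← Finset.mul_sum, ← hI]
    congr 1
    rw [Finset.sum_comm, hT, Finset.mul_sum]
    refine Finset.sum_congr rfl fun χ _ => ?_
    have h2 : ∀ i : ZMod p, (χ : G → ℂ) t * (χ : G → ℂ) t * conj ((χ : G → ℂ) (x ^ i.val)) /
        (χ : G → ℂ) 1 = ((χ : G → ℂ) t * (χ : G → ℂ) t / (χ : G → ℂ) 1) *
        conj ((χ : G → ℂ) (x ^ i.val)) := by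
      intro i; ring
    rw [Finset.sum_congr rfl fun i _ => h2 i, ← Finset.mul_sum, ← map_sum]
    have h3 : ∑ i : ZMod p, (χ : G → ℂ) (x ^ i.val) = (p : ℂ) * n χ := by
      rw [← hn χ, mlt]
      simp only [zero_mul, AddChar.map_zero_eq_one, map_one, mul_one]
      rw [← mul_assoc, mul_inv_cancel₀ hp0, one_mul]
    rw [h3, map_mul, Complex.conj_natCast, Complex.conj_natCast]
    ring
  have hpG : p ∣ Nat.card G := by
    have := Nat.ordProj_dvd (Nat.card G) p
    rwa [hG, pow_one] at this
  obtain ⟨M, hM⟩ := hpG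
  have hMp : ¬ p ∣ M := by
    rintro ⟨k, rfl⟩
    have h2 : p ^ 2 ∣ Nat.card G := ⟨k, by rw [hM]; ring⟩
    have := (hp.out.pow_dvd_iff_le_factorization Nat.card_pos.ne').1 h2
    omega
  have hdeg : ∀ χ : IrrCharacter G, charDegree (χ : G → ℂ) ∣ M := by
    intro χ
    have h2 := Cfsg.Agent.Blocks.Knorr.charDegree_dvd χ.2
    rw [hM] at h2
    exact (Nat.Coprime.dvd_mul_left (Nat.Coprime.symm ((Nat.Prime.coprime_iff_not_dvd hp.out).2 (hno χ)))).1 h2
  choose k hk using hdeg
  have hint : IsIntegral ℤ ((M : ℂ) * T) := by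
    rw [hT, Finset.mul_sum]
    refine IsIntegral.sum _ fun χ _ => ?_
    have h2 : (χ : G → ℂ) 1 ≠ 0 := isIrr_apply_one_ne_zero χ.2
    have h3 : (M : ℂ) * ((χ : G → ℂ) t * (χ : G → ℂ) t * n χ / (χ : G → ℂ) 1) =
        (k χ : ℂ) * ((χ : G → ℂ) t * (χ : G → ℂ) t * n χ) := by
      rw [hk χ]
      push_cast
      rw [← irr_one_eq_charDegree χ.2]
      field_simp
    rw [h3]
    have h4 : ∀ n : ℕ, IsIntegral ℤ (n : ℂ) := fun n => by
      have := isIntegral_algebraMap (R := ℤ) (A := ℂ) (x := (n : ℤ))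
      simpa using this
    exact (h4 _).mul (((Cfsg.Agent.H665.DefZero.isIntegral_char (isIrr_isCharacter χ.2) t).mul
      (Cfsg.Agent.H665.DefZero.isIntegral_char (isIrr_isCharacter χ.2) t)).mul (h4 _))
  have hval : (M : ℂ) * T = algebraMap ℚ ℂ (((N * (m * m) : ℕ) : ℚ) / (p : ℚ) ^ 2) := by
    have hGM : (Nat.card G : ℂ) = p * M := by rw [hM]; push_cast; ring
    have hm0 : (m : ℂ) ≠ 0 := by
      intro h; rw [h, zero_mul] at hImG; exact hG0 hImG.symm
    have h5 : (N : ℂ) * ((m : ℂ) * m) = (p : ℂ) ^ 2 * (M * T) := by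
      have h6 : (N : ℂ) * (Nat.card G : ℂ) = I * I * (p * T) := by
        rw [h1]; field_simp
      have h7 : (N : ℂ) * ((m : ℂ) * m) * (Nat.card G : ℂ) = (p : ℂ) ^ 2 * (M * T) * (Nat.card G : ℂ) := by
        calc (N : ℂ) * ((m : ℂ) * m) * (Nat.card G : ℂ) = (m * I) * (m * I) * (p * T) := by
              rw [show (N : ℂ) * ((m : ℂ) * m) * (Nat.card G : ℂ) = (m * m) * (N * (Nat.card G : ℂ)) by ring, h6]
              ring
          _ = (Nat.card G : ℂ) * (Nat.card G : ℂ) * (p * T) := by rw [hImG]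
          _ = (p : ℂ) ^ 2 * (M * T) * (Nat.card G : ℂ) := by
              nth_rewrite 1 [hGM]; ring
      exact mul_right_cancel₀ hG0 h7
    push_cast
    rw [h5]
    field_simp
  rw [hval] at hint
  have h5 : IsIntegral ℤ (((N * (m * m) : ℕ) : ℚ) / (p : ℚ) ^ 2) :=
    (isIntegral_algebraMap_iff (algebraMap ℚ ℂ).injective).1 hint
  obtain ⟨j, hj⟩ := IsIntegrallyClosed.isIntegral_iff.1 h5
  have hp0' : (p : ℚ) ≠ 0 := by exact_mod_cast hp.out.ne_zero
  have h6 : ((N * (m * m) : ℕ) : ℚ) = (j : ℚ) * (p : ℚ) ^ 2 := by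
    have : (j : ℚ) = ((N * (m * m) : ℕ) : ℚ) / (p : ℚ) ^ 2 := hj
    rw [this]; field_simp
  have h7 : ((N * (m * m) : ℕ) : ℤ) = j * (p : ℤ) ^ 2 := by exact_mod_cast h6
  have h8 : ((p ^ 2 : ℕ) : ℤ) ∣ ((N * (m * m) : ℕ) : ℤ) := ⟨j, by rw [h7]; push_cast; ring⟩
  have h9 : p ^ 2 ∣ N * (m * m) := by exact_mod_cast h8
  have hcop : Nat.Coprime (p ^ 2) (m * m) := by
    have := (Nat.Prime.coprime_iff_not_dvd hp.out).2 hpm
    exact Nat.Coprime.pow_left 2 (Nat.Coprime.mul_right this this)
  exact (Nat.Coprime.dvd_mul_right hcop).1 h9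

theorem conj_of_odd {a b : G} (ha : a * a = 1) (hb : b * b = 1) (hodd : Odd (orderOf (a * b))) :
    ∃ k : ℕ, (a * b) ^ k * a * ((a * b) ^ k)⁻¹ = b := by
  obtain ⟨k, hk⟩ := hodd
  have ha' : a⁻¹ = a := inv_eq_of_mul_eq_one_left ha
  have hb' : b⁻¹ = b := inv_eq_of_mul_eq_one_left hb
  refine ⟨k, ?_⟩
  have h1 : a * (a * b) * a⁻¹ = (a * b)⁻¹ := by
    rw [mul_inv_rev, ha', hb', ← mul_assoc, ha, one_mul]
  have h2 : a * ((a * b) ^ k)⁻¹ * a⁻¹ = (a * b) ^ k := by
    rw [← inv_pow, ← conj_pow, show a * (a * b)⁻¹ * a⁻¹ = (a * (a * b) * a⁻¹)⁻¹ by group, h1, inv_inv]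
  have h3 : (a * b) ^ (2 * k + 1) = 1 := by rw [← hk]; exact pow_orderOf_eq_one _
  have h4 : a * ((a * b) ^ k)⁻¹ = (a * b) ^ k * a := by
    rw [← mul_inv_eq_iff_eq_mul]; exact h2
  rw [mul_assoc, h4, ← mul_assoc, ← pow_add, ← two_mul]
  have h5 : (a * b) ^ (2 * k) = (a * b)⁻¹ := by
    rw [pow_succ] at h3
    exact eq_inv_of_mul_eq_one_left h3
  rw [h5, mul_inv_rev, ha', hb', mul_assoc, ha, mul_one]

/-- The involutions inverting `x` when `C(x)` has odd order: `#(inverting) * #(C(x) ∩ C(t)) = #C(x)`. -/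
theorem card_inverting [Finite G] {x t : G} (hodd : Odd (Nat.card (Subgroup.centralizer ({x} : Set G))))
    (ht : orderOf t = 2) (htx : t * x * t⁻¹ = x⁻¹) :
    Nat.card {g : G // IsConj t g ∧ g * x * g⁻¹ = x⁻¹} *
      Nat.card ↥(Subgroup.centralizer ({x} : Set G) ⊓ Subgroup.centralizer ({t} : Set G)) =
      Nat.card (Subgroup.centralizer ({x} : Set G)) := by
  classical
  set C := Subgroup.centralizer ({x} : Set G) with hC
  have hmem : ∀ c : G, c ∈ C ↔ c * x * c⁻¹ = x := by
    intro c
    rw [hC, Subgroup.mem_centralizer_singleton_iff, mul_inv_eq_iff_eq_mul]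
  let act : MulAction C G := MulAction.compHom G ((MulAut.conj : G →* MulAut G).comp C.subtype)
  have hsm : ∀ (c : C) (g : G), c • g = (c : G) * g * (c : G)⁻¹ := fun c g => rfl
  have h1 : Nat.card (MulAction.orbit C t) * Nat.card (MulAction.stabilizer C t) = Nat.card C := by
    rw [← Nat.card_prod]
    exact Nat.card_congr (MulAction.orbitProdStabilizerEquivGroup C t)
  rw [← h1]
  congr 1
  · refine Nat.card_congr (Equiv.subtypeEquivRight fun g => ?_)
    constructor
    · rintro ⟨hg, hgx⟩
      have hgg : g * g = 1 := by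
        obtain ⟨d, rfl⟩ := isConj_iff.1 hg
        have := (orderOf_two ht).1
        calc d * t * d⁻¹ * (d * t * d⁻¹) = d * (t * t) * d⁻¹ := by group
          _ = 1 := by rw [this]; group
      have htg : t * g ∈ C := by
        rw [hmem]
        calc t * g * x * (t * g)⁻¹ = t * (g * x * g⁻¹) * t⁻¹ := by group
          _ = t * x⁻¹ * t⁻¹ := by rw [hgx]
          _ = (t * x * t⁻¹)⁻¹ := by group
          _ = x := by rw [htx, inv_inv]
      have hodd' : Odd (orderOf (t * g)) := by
        refine Odd.of_dvd_nat hodd ?_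
        rw [← Subgroup.orderOf_mk (t * g) htg]
        exact orderOf_dvd_natCard _
      obtain ⟨k, hk⟩ := conj_of_odd (orderOf_two ht).1 hgg hodd'
      rw [MulAction.mem_orbit_iff]
      exact ⟨⟨(t * g) ^ k, C.pow_mem htg k⟩, hk⟩
    · intro h
      obtain ⟨⟨c, hc⟩, hcg⟩ := MulAction.mem_orbit_iff.1 h
      have h2 : c * t * c⁻¹ = g := hcg
      refine ⟨isConj_iff.2 ⟨c, h2⟩, ?_⟩
      rw [← h2]
      have h3 := (hmem c).1 hc
      have h4 : c⁻¹ * x * c = x := by
        calc c⁻¹ * x * c = c⁻¹ * (c * x * c⁻¹) * c := by rw [h3]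
          _ = x := by group
      calc c * t * c⁻¹ * x * (c * t * c⁻¹)⁻¹ = c * (t * (c⁻¹ * x * c) * t⁻¹) * c⁻¹ := by group
        _ = c * x⁻¹ * c⁻¹ := by rw [h4, htx]
        _ = (c * x * c⁻¹)⁻¹ := by group
        _ = x⁻¹ := by rw [h3]
  · refine Nat.card_congr
      { toFun := fun c => ⟨⟨(c : G), c.2.1⟩, ?_⟩
        invFun := fun c => ⟨((c : C) : G), c.1.2, ?_⟩
        left_inv := fun c => rfl
        right_inv := fun c => rfl }
    · rw [MulAction.mem_stabilizer_iff, hsm]
      have := Subgroup.mem_centralizer_singleton_iff.1 c.2.2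
      show (c : G) * t * (c : G)⁻¹ = t
      rw [this]; group
    · have := MulAction.mem_stabilizer_iff.1 c.2
      rw [hsm] at this
      exact Subgroup.mem_centralizer_singleton_iff.2 (mul_inv_eq_iff_eq_mul.1 this)

/-- The numerical criterion: all centralizers of involutions have order `m`, prime to `p`. -/
theorem hasDZ_of_card [Finite G] (hp2 : p ≠ 2) (hG : (Nat.card G).factorization p = 1)
    (h2 : 2 ∣ Nat.card G) {m : ℕ}
    (hm : ∀ u : G, orderOf u = 2 → Nat.card (Subgroup.centralizer ({u} : Set G)) = m) (hpm : ¬ p ∣ m)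
    (hnum : ∀ (e a b : ℕ) (x t : G), orderOf x = p → orderOf t = 2 →
      Nat.card ↥(Subgroup.centralizer ({x} : Set G) ⊓ Subgroup.centralizer ({t} : Set G)) = b →
      e ∣ p - 1 → Even e → b ∣ m → Odd b → Odd a → p * (e * (a * b)) ∣ Nat.card G →
      (e * (a * b)) % p = (Nat.card G / p) % p → (a * m) % p = (Nat.card G / p) % p → False) :
    HasDZ p G := by
  classical
  by_contra hno
  have hodd2 : 2 < p := lt_of_le_of_ne hp.out.two_le (Ne.symm hp2)
  have hC := oddCent_of_invol (p := p) fun u hu => by rw [hm u hu]; exact hpm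
  have hpG : p ∣ Nat.card G := by
    have := Nat.ordProj_dvd (Nat.card G) p
    rwa [hG, pow_one] at this
  -- an involution inverting an element of order `p`
  have : Fact (Nat.Prime 2) := ⟨Nat.prime_two⟩
  obtain ⟨t, ht⟩ := exists_prime_orderOf_dvd_card' 2 h2
  obtain ⟨u, hu, ⟨k, hk⟩, htu⟩ := exists_inverted_of_no_defectZero hC hno (orderOf_two ht).1 (orderOf_two ht).2
  have hk0 : k ≠ 0 := by
    rintro rfl
    rw [pow_zero, orderOf_eq_one_iff] at hk
    exact hu hk
  obtain ⟨x, hx, htx⟩ : ∃ x : G, orderOf x = p ∧ t * x * t⁻¹ = x⁻¹ := by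
    refine ⟨u ^ p ^ (k - 1), ?_, ?_⟩
    · rw [orderOf_pow, hk, Nat.gcd_eq_right (pow_dvd_pow p (Nat.sub_le k 1)),
        Nat.pow_div (Nat.sub_le k 1) hp.out.pos]
      have : k - (k - 1) = 1 := by omega
      rw [this, pow_one]
    · rw [← conj_pow, htu, inv_pow]
  have hx1 : x ≠ 1 := by
    rintro rfl
    rw [orderOf_one] at hx
    omega
  have hxp : x ^ p = 1 := by rw [← hx]; exact pow_orderOf_eq_one x
  have hCx : Odd (Nat.card (Subgroup.centralizer ({x} : Set G))) := hC x hx1 ⟨1, by rw [hx, pow_one]⟩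
  have hcard := card_inverting hCx ht htx
  set b := Nat.card ↥(Subgroup.centralizer ({x} : Set G) ⊓ Subgroup.centralizer ({t} : Set G)) with hb
  set I := Nat.card {g : G // IsConj t g ∧ g * x * g⁻¹ = x⁻¹} with hI
  have hbm : b ∣ m := by
    rw [← hm t ht, hb]
    exact Subgroup.card_dvd_of_le inf_le_right
  have hbp : ¬ p ∣ b := fun h => hpm (h.trans hbm)
  have hxC : x ∈ Subgroup.centralizer ({x} : Set G) := Subgroup.mem_centralizer_singleton_iff.2 rfl
  have hpC : p ∣ Nat.card (Subgroup.centralizer ({x} : Set G)) := by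
    rw [← hx, ← Subgroup.orderOf_mk x hxC]
    exact orderOf_dvd_natCard _
  have hpI : p ∣ I := by
    rw [← hcard] at hpC
    exact (hp.out.dvd_mul.1 hpC).resolve_right hbp
  obtain ⟨a, ha⟩ := hpI
  have hcC : Nat.card (Subgroup.centralizer ({x} : Set G)) = p * (a * b) := by rw [← hcard, ha]; ring
  have hodd_ab : Odd (p * (a * b)) := by rw [← hcC]; exact hCx
  have hb_odd : Odd b := (Nat.odd_mul.1 (Nat.odd_mul.1 hodd_ab).2).2
  have ha_odd : Odd a := (Nat.odd_mul.1 (Nat.odd_mul.1 hodd_ab).2).1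
  -- the congruence
  have hno' : ∀ χ : IrrCharacter G, ¬ p ∣ charDegree (χ : G → ℂ) := by
    intro χ hd
    apply hno
    refine ⟨χ, le_antisymm ?_ ?_⟩
    · exact (Nat.factorization_le_iff_dvd (charDegree_pos χ.2).ne' Nat.card_pos.ne').2
        (Cfsg.Agent.Blocks.Knorr.charDegree_dvd χ.2) p
    · rw [hG]
      exact (hp.out.dvd_iff_one_le_factorization (charDegree_pos χ.2).ne').1 hd
  have hsq := sq_dvd_of_no_dz hG hno' hxp (hm t ht) hpm
  have hN0 : ∀ i : ZMod p, Nat.card {q : G × G // IsConj t q.1 ∧ IsConj t q.2 ∧ q.1 * q.2 = x ^ i.val} =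
      if i = 0 then (Subgroup.centralizer ({t} : Set G)).index else I := by
    intro i
    have hcj : ∀ g : G, IsConj t g → g * g = 1 := by
      intro g hg
      obtain ⟨d, rfl⟩ := isConj_iff.1 hg
      calc d * t * d⁻¹ * (d * t * d⁻¹) = d * (t * t) * d⁻¹ := by group
        _ = 1 := by rw [(orderOf_two ht).1]; group
    split_ifs with hi
    · subst hi
      rw [Cfsg.Agent.Blocks.Basic.index_centralizer_eq_ncard, ← Nat.card_coe_set_eq]
      refine Nat.card_congr
        { toFun := fun q => ⟨q.1.1, q.2.1⟩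
          invFun := fun g => ⟨(g.1, g.1), g.2, g.2, ?_⟩
          left_inv := ?_
          right_inv := fun g => rfl }
      · rw [hcj g.1 g.2]
        simp
      · rintro ⟨⟨g, h⟩, h1, h2, h3⟩
        simp only [ZMod.val_zero, pow_zero] at h3
        have h4 : h = g := by
          have := hcj g h1
          exact mul_left_cancel (h3.trans this.symm)
        simp only [h4]
    · rw [hI]
      have hinvx : ∀ g : G, g * x * g⁻¹ = x⁻¹ → g * x ^ i.val * g⁻¹ = (x ^ i.val)⁻¹ := by
        intro g hg
        rw [← conj_pow, hg, inv_pow]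
      refine Nat.card_congr
        { toFun := fun q => ⟨q.1.1, q.2.1, ?_⟩
          invFun := fun g => ⟨(g.1, g.1 * x ^ i.val), g.2.1, ?_, ?_⟩
          left_inv := ?_
          right_inv := fun g => rfl }
      · obtain ⟨⟨g, h⟩, h1, h2, h3⟩ := q
        simp only at h3 ⊢
        have hgg := hcj g h1
        have hhh := hcj h h2
        have hg' : g⁻¹ = g := inv_eq_of_mul_eq_one_left hgg
        have hh' : h⁻¹ = h := inv_eq_of_mul_eq_one_left hhh
        have h4 : g * x ^ i.val * g⁻¹ = (x ^ i.val)⁻¹ := by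
          rw [← h3, mul_inv_rev, hg', hh']
          calc g * (g * h) * g = (g * g) * h * g := by group
            _ = h * g := by rw [hgg, one_mul]
        have h5 := congrArg (· ^ (i⁻¹ : ZMod p).val) h4
        simp only [conj_pow, inv_pow] at h5
        rwa [pow_val_mul hxp, mul_inv_cancel₀ hi, ZMod.val_one, pow_one] at h5
      · obtain ⟨g, h1, h2⟩ := g
        simp only
        have hgg := hcj g h1
        have hg' : g⁻¹ = g := inv_eq_of_mul_eq_one_left hgg
        have h4 := hinvx g h2
        have h5 : (g * x ^ i.val) * (g * x ^ i.val) = 1 := by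
          calc (g * x ^ i.val) * (g * x ^ i.val) = (g * x ^ i.val * g⁻¹) * (g * g) * x ^ i.val := by group
            _ = 1 := by rw [h4, hgg]; group
        have h6 : g * (g * x ^ i.val) = x ^ i.val := by rw [← mul_assoc, hgg, one_mul]
        refine h1.trans (isConj_of_odd hgg h5 ?_)
        rw [h6]
        have h7 : orderOf (x ^ i.val) ∣ p := (orderOf_pow_dvd _).trans (dvd_of_eq hx)
        exact Odd.of_dvd_nat (hp.out.odd_of_ne_two hp2) h7
      · obtain ⟨g, h1, h2⟩ := g
        simp only
        rw [← mul_assoc, hcj g h1, one_mul]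
      · rintro ⟨⟨g, h⟩, h1, h2, h3⟩
        simp only at h3 ⊢
        have : g * x ^ i.val = h := by rw [← h3, ← mul_assoc, hcj g h1, one_mul]
        simp only [this]
  have hT : Nat.card G = m * (Subgroup.centralizer ({t} : Set G)).index := by
    rw [← hm t ht, Subgroup.card_mul_index]
  rw [Finset.sum_congr rfl fun i _ => hN0 i, Finset.sum_ite, Finset.sum_const, Finset.sum_const,
    Finset.filter_eq' Finset.univ (0 : ZMod p), if_pos (Finset.mem_univ _), Finset.card_singleton,
    Finset.filter_ne', Finset.card_erase_of_mem (Finset.mem_univ _), Finset.card_univ, ZMod.card,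
    one_smul, smul_eq_mul, ha] at hsq
  have hpT : p ∣ (Subgroup.centralizer ({t} : Set G)).index := by
    rw [hT] at hpG
    exact (hp.out.dvd_mul.1 hpG).resolve_left hpm
  obtain ⟨T', hT'⟩ := hpT
  have hpp := hp.out.pos
  have hGp : Nat.card G / p = m * T' := by
    rw [hT, hT', show m * (p * T') = p * (m * T') by ring, Nat.mul_div_cancel_left _ hpp]
  have h10 : p ∣ T' + (p - 1) * a := by
    rw [hT', show p * T' + (p - 1) * (p * a) = p * (T' + (p - 1) * a) by ring, pow_two] at hsq
    exact Nat.dvd_of_mul_dvd_mul_left hpp hsq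
  have h11 : a ≡ T' [MOD p] := by
    have h12 : T' + (p - 1) * a + a ≡ 0 + a [MOD p] := ((Nat.modEq_zero_iff_dvd).2 h10).add_right a
    have h13 : T' + (p - 1) * a + a = T' + p * a := by
      have : (p - 1) * a + a = p * a := by
        conv_lhs => rw [← Nat.succ_mul]
        congr 1
        omega
      omega
    rw [h13, zero_add] at h12
    have h14 : T' + p * a ≡ T' + 0 [MOD p] := by
      exact Nat.ModEq.add_left T' ((Nat.modEq_zero_iff_dvd).2 (dvd_mul_right p a))
    exact (h14.symm.trans h12).symm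
  have h12 : (a * m) % p = (Nat.card G / p) % p := by
    have := h11.mul_right m
    rw [hGp, mul_comm m T']
    exact this
  have hinv : IsConj x x⁻¹ := isConj_iff.2 ⟨t, htx⟩
  have he := even_fus hxp hp2 hinv
  have h13 := card_fus_mul hG hx hcC
  have h14 := card_fus_mul_card_sing (p := p) hxp
  have h15 := card_normalizer_zpowers hx
  refine hnum (fus (p := p) x).card a b x t hx ht rfl ⟨_, h14.symm⟩ he hbm hb_odd ha_odd ?_ h13 h12
  have h16 : Nat.card (Subgroup.normalizer (Subgroup.zpowers x : Set G)) ∣ Nat.card G :=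
    Subgroup.card_subgroup_dvd_card _
  rw [h15, hcC] at h16
  rwa [show p * ((fus (p := p) x).card * (a * b)) = (fus (p := p) x).card * (p * (a * b)) by ring]

end Cfsg.Agent.H713
end
end
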